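import Cfsg.Agent.H413.JOneSpec
import Cfsg.Agent.OddHalf.D4.Spor.J1Out

/-!
# Facts on the first Janko group (helper389)
-/

set_option autoImplicit false
set_option maxRecDepth 100000

namespace Cfsg.Agent.H389.JFacts

open Subgroup
open Cfsg.Agent.SporadicB.J1.Mat Cfsg.Agent.SporadicB.J1.Main Cfsg.Agent.SporadicB.J1.Data
open Cfsg.Spor (J1)
open Cfsg.Agent.H413.JOneLocal
open Cfsg.Agent.OddHalf.D4.Spor.J1Out (EE card_EE nn nn_conj f_inj f card_pow pn f_zero rep_nn f_inv)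

theorem simple : IsSimpleGroup J1 := isJ1.1

theorem spec_div : ∀ n ∈ ({1, 2, 3, 5, 6, 7, 10, 11, 15, 19} : Finset ℕ),
    (7 ∣ n → n = 7) ∧ (11 ∣ n → n = 11) ∧ (19 ∣ n → n = 19) := by decide

/-- elements of order prime to `p` commuting with an element of order `p = 7, 11, 19` are trivial -/
theorem eq_one_of_comm {p : ℕ} (hp : p = 7 ∨ p = 11 ∨ p = 19) {x z : J1} (hx : orderOf x = p)
    (hxz : Commute x z) (hz : p.Coprime (orderOf z)) : z = 1 := by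
  have h1 : orderOf (x * z) = p * orderOf z := by
    rw [hxz.orderOf_mul_eq_mul_orderOf_of_coprime (by rw [hx]; exact hz), hx]
  have h2 := H413.JOneSpec.orderOf_mem_J1 (x * z)
  rw [h1] at h2
  have h3 := spec_div _ h2
  have h4 : p * orderOf z = p := by
    rcases hp with rfl | rfl | rfl
    · exact h3.1 ⟨_, rfl⟩
    · exact h3.2.1 ⟨_, rfl⟩
    · exact h3.2.2 ⟨_, rfl⟩
  rw [← orderOf_eq_one_iff]
  have h5 : 0 < p := by rcases hp with rfl | rfl | rfl <;> norm_num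
  exact Nat.eq_of_mul_eq_mul_left h5 (by rw [h4, mul_one])

/-- the centralizer of an element of order `p = 7, 11, 19` is a `p`-group -/
theorem isPGroup_cent {p : ℕ} (hp : p = 7 ∨ p = 11 ∨ p = 19) {x : J1} (hx : orderOf x = p) :
    IsPGroup p (centralizer ({x} : Set J1)) := by
  have hpp : p.Prime := by rcases hp with rfl | rfl | rfl <;> norm_num
  have : Fact p.Prime := ⟨hpp⟩
  rw [IsPGroup.iff_orderOf]
  rintro ⟨z, hz⟩
  rw [Subgroup.orderOf_mk]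
  have hc : Commute x z := (mem_centralizer_singleton_iff.mp hz).symm
  -- the `p'`-part is trivial
  obtain ⟨k, m, hm, hk⟩ := Nat.exists_eq_pow_mul_and_not_dvd (orderOf_pos z).ne' p hpp.ne_one
  have h1 : orderOf (z ^ p ^ k) = m := by
    rw [orderOf_pow_of_dvd (pow_ne_zero _ hpp.ne_zero) ⟨m, hk⟩, hk,
      Nat.mul_div_cancel_left _ (pow_pos hpp.pos _)]
  have h2 := eq_one_of_comm hp hx (hc.pow_right (p ^ k)) (by
    rw [h1]; exact (Nat.Prime.coprime_iff_not_dvd hpp).mpr hm)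
  rw [h2, orderOf_one] at h1
  exact ⟨k, by rw [hk, ← h1, mul_one]⟩

theorem inv_conj {x y : J1} (hx : orderOf x = 2) (hy : orderOf y = 2) : ∃ g : J1, g * x * g⁻¹ = y :=
  isLocal.conj x y hx hy

/-! ### Frobenius subgroups -/

/-- a subgroup `11 : 10` -/
theorem frob_eleven : ∃ y w : J1, orderOf y = 11 ∧ orderOf w = 10 ∧ w * y * w⁻¹ ∈ zpowers y := by
  refine ⟨ev [0, 1, 1], ev [1, 0, 1, 1, 0, 1, 0, 0], H413.JOneSpec.ex11, ?_, ?_⟩
  · have h6 : (ev [1, 0, 1, 1, 0, 1, 0, 0]) ^ 10 = 1 := ((rep_ev _).pow 10).eq Rep.one (by decide +kernel)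
    have h3 : (ev [1, 0, 1, 1, 0, 1, 0, 0]) ^ 5 ≠ 1 := ((rep_ev _).pow 5).ne Rep.one (by decide +kernel)
    have h2 : (ev [1, 0, 1, 1, 0, 1, 0, 0]) ^ 2 ≠ 1 := ((rep_ev _).pow 2).ne Rep.one (by decide +kernel)
    refine orderOf_eq_of_pow_and_pow_div_prime (by norm_num) h6 ?_
    intro p hp hd
    have h1 : p ∣ 2 * 5 := hd
    rcases (Nat.Prime.dvd_mul hp).1 h1 with h | h
    · rw [(Nat.prime_dvd_prime_iff_eq hp Nat.prime_two).1 h]; exact h3
    · rw [(Nat.prime_dvd_prime_iff_eq hp Nat.prime_five).1 h]; exact h2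
  · have h : ev [1, 0, 1, 1, 0, 1, 0, 0] * ev [0, 1, 1] = ev [0, 1, 1] ^ 8 * ev [1, 0, 1, 1, 0, 1, 0, 0] :=
      ((rep_ev _).mul (rep_ev _)).eq (((rep_ev _).pow 8).mul (rep_ev _)) (by decide +kernel)
    rw [h, mul_inv_cancel_right]
    exact pow_mem (mem_zpowers _) 8

/-- a subgroup `19 : 6` -/
theorem frob_nineteen : ∃ y w : J1, orderOf y = 19 ∧ orderOf w = 6 ∧ w * y * w⁻¹ ∈ zpowers y := by
  refine ⟨ev [0, 0, 0, 1], ev [1, 1, 0, 1, 1, 2, 1, 0, 0, 1, 1, 0, 0], H413.JOneSpec.ex19, ?_, ?_⟩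
  · have h6 : (ev [1, 1, 0, 1, 1, 2, 1, 0, 0, 1, 1, 0, 0]) ^ 6 = 1 :=
      ((rep_ev _).pow 6).eq Rep.one (by decide +kernel)
    have h3 : (ev [1, 1, 0, 1, 1, 2, 1, 0, 0, 1, 1, 0, 0]) ^ 3 ≠ 1 :=
      ((rep_ev _).pow 3).ne Rep.one (by decide +kernel)
    have h2 : (ev [1, 1, 0, 1, 1, 2, 1, 0, 0, 1, 1, 0, 0]) ^ 2 ≠ 1 :=
      ((rep_ev _).pow 2).ne Rep.one (by decide +kernel)
    refine orderOf_eq_of_pow_and_pow_div_prime (by norm_num) h6 ?_
    intro p hp hd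
    have h1 : p ∣ 2 * 3 := hd
    rcases (Nat.Prime.dvd_mul hp).1 h1 with h | h
    · rw [(Nat.prime_dvd_prime_iff_eq hp Nat.prime_two).1 h]; exact h3
    · rw [(Nat.prime_dvd_prime_iff_eq hp Nat.prime_three).1 h]; exact h2
  · have h : ev [1, 1, 0, 1, 1, 2, 1, 0, 0, 1, 1, 0, 0] * ev [0, 0, 0, 1] =
        ev [0, 0, 0, 1] ^ 12 * ev [1, 1, 0, 1, 1, 2, 1, 0, 0, 1, 1, 0, 0] :=
      ((rep_ev _).mul (rep_ev _)).eq (((rep_ev _).pow 12).mul (rep_ev _)) (by decide +kernel)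
    rw [h, mul_inv_cancel_right]
    exact pow_mem (mem_zpowers _) 12

/-! ### The Sylow 2-subgroup -/

theorem nn_seven : nn ^ 7 = 1 := (rep_nn.pow 7).eq Rep.one (by decide +kernel)

theorem nn_ne : nn ≠ 1 := by
  intro h
  have h1 := nn_conj 1
  rw [h, one_mul, inv_one, mul_one] at h1
  have h2 := f_inj h1
  revert h2
  decide

theorem orderOf_nn : orderOf nn = 7 := by
  have : Fact (Nat.Prime 7) := ⟨by norm_num⟩
  exact orderOf_eq_prime nn_seven nn_ne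

theorem nn_mem {a : J1} (ha : a ∈ EE) : nn * a * nn⁻¹ ∈ EE := by
  obtain ⟨i, rfl⟩ := ha
  exact ⟨pn i, (nn_conj i).symm⟩

/-- the Sylow 2-subgroup with `nn` -/
noncomputable def P2 : Sylow 2 J1 :=
  haveI : Fact (Nat.Prime 2) := ⟨Nat.prime_two⟩
  Sylow.ofCard EE (by rw [card_EE]; exact card_pow)

theorem coe_P2 : (P2 : Subgroup J1) = EE := rfl

/-- **a Sylow 2-subgroup is normalised by an element of order 7** -/
theorem exists_sylow : ∃ (P : Sylow 2 J1) (x : J1), orderOf x = 7 ∧ (P : Subgroup J1) ≠ ⊥ ∧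
    ∀ a ∈ (P : Subgroup J1), x * a * x⁻¹ ∈ (P : Subgroup J1) := by
  refine ⟨P2, nn, orderOf_nn, ?_, fun a ha => nn_mem ha⟩
  rw [coe_P2]
  intro h
  have := card_EE
  rw [h, Subgroup.card_bot] at this
  norm_num at this

end Cfsg.Agent.H389.JFacts
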