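import Mathlib

/-!
# Automorphisms of groups of order 60 and 660 (helper389)
-/

set_option autoImplicit false

namespace Cfsg.Agent.H389.Small

open Subgroup
open scoped Pointwise

/-- fixed points modulo `p` -/
theorem card_modEq {α : Type*} [Finite α] (f : Equiv.Perm α) {p n : ℕ} (hp : p.Prime)
    (hf : f ^ p ^ n = 1) : Nat.card α ≡ Nat.card {x // f x = x} [MOD p] := by
  classical
  have : Fact p.Prime := ⟨hp⟩
  have := Fintype.ofFinite α
  let F : Function.End α := fun x => f x
  have h1 : F ^ p ^ n = 1 := by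
    have h2 : ∀ k : ℕ, F ^ k = (fun x => (f ^ k) x : Function.End α) := by
      intro k
      induction k with
      | zero => rfl
      | succ k ih => rw [pow_succ, ih, pow_succ]; rfl
    rw [h2, hf]; rfl
  have h3 := Equiv.Perm.card_fixedPoints_modEq (f := F) h1
  rw [← Nat.card_eq_fintype_card, ← Nat.card_eq_fintype_card] at h3
  exact h3

variable {L : Type*} [Group L]

/-- the fixed points of an automorphism -/
def fix (φ : MulAut L) : Subgroup L where
  carrier := {x | φ x = x}
  one_mem' := map_one φ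
  mul_mem' := by
    intro a b ha hb
    show φ (a * b) = a * b
    rw [map_mul]
    exact congrArg₂ _ ha hb
  inv_mem' := by
    intro a ha
    show φ a⁻¹ = a⁻¹
    rw [map_inv]
    exact congrArg _ ha

theorem mem_fix {φ : MulAut L} {x : L} : x ∈ fix φ ↔ φ x = x := Iff.rfl

theorem eq_one_of_fix {φ : MulAut L} (h : fix φ = ⊤) : φ = 1 := by
  ext x
  have : x ∈ fix φ := by rw [h]; exact mem_top x
  exact this

variable [Finite L]

/-- fixed points on an invariant subgroup -/
theorem card_inf_modEq (φ : MulAut L) {p n : ℕ} (hp : p.Prime) (hφ : φ ^ p ^ n = 1)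
    (R : Subgroup L) (hR : φ • R = R) :
    Nat.card R ≡ Nat.card (R ⊓ fix φ : Subgroup L) [MOD p] := by
  have hmem : ∀ x : L, x ∈ R → φ x ∈ R := by
    intro x hx
    rw [← hR]
    exact Subgroup.smul_mem_pointwise_smul x φ R hx
  have hmem' : ∀ x : L, x ∈ R → φ⁻¹ x ∈ R := by
    intro x hx
    rw [← hR, Subgroup.mem_pointwise_smul_iff_inv_smul_mem] at hx
    exact hx
  let f : Equiv.Perm R :=
    { toFun := fun x => ⟨φ x, hmem x x.2⟩
      invFun := fun x => ⟨φ⁻¹ x, hmem' x x.2⟩
      left_inv := fun x => Subtype.ext (by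
        show φ⁻¹ (φ x) = x
        rw [← MulAut.mul_apply, inv_mul_cancel, MulAut.one_apply])
      right_inv := fun x => Subtype.ext (by
        show φ (φ⁻¹ x) = x
        rw [← MulAut.mul_apply, mul_inv_cancel, MulAut.one_apply]) }
  have hf : ∀ (k : ℕ) (x : R), (((f ^ k) x : R) : L) = (φ ^ k) x := by
    intro k
    induction k with
    | zero => intro x; rfl
    | succ k ih =>
      intro x
      rw [pow_succ, Equiv.Perm.mul_apply, ih, pow_succ, MulAut.mul_apply]
      rfl
  have h1 : f ^ p ^ n = 1 := by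
    ext x
    rw [hf, hφ]
    rfl
  have h2 := card_modEq f hp h1
  have e : {x : R // f x = x} ≃ (R ⊓ fix φ : Subgroup L) :=
    { toFun := fun x => ⟨x.1, ⟨x.1.2, congrArg Subtype.val x.2⟩⟩
      invFun := fun x => ⟨⟨x.1, x.2.1⟩, Subtype.ext x.2.2⟩
      left_inv := fun x => rfl
      right_inv := fun x => rfl }
  rwa [Nat.card_congr e] at h2

/-- fixed Sylow subgroups -/
theorem card_fixed_sylow_modEq (φ : MulAut L) {p n : ℕ} (hp : p.Prime) (hφ : φ ^ p ^ n = 1) (r : ℕ)
    [Fact r.Prime] : Nat.card (Sylow r L) ≡ Nat.card {R : Sylow r L // φ • R = R} [MOD p] := by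
  refine card_modEq (MulAction.toPerm φ : Equiv.Perm (Sylow r L)) (n := n) hp ?_
  rw [← MulAction.toPermHom_apply, ← map_pow, hφ, map_one]

theorem exists_fixed_sylow (φ : MulAut L) {p : ℕ} (hp : p.Prime) (hφ : φ ^ p = 1)
    (hpL : ¬ p ∣ Nat.card L) (r : ℕ) [Fact r.Prime] : ∃ R : Sylow r L, φ • R = R := by
  have h1 := card_fixed_sylow_modEq φ (n := 1) hp (by rwa [pow_one]) r
  by_contra hcon
  push Not at hcon
  have : IsEmpty {R : Sylow r L // φ • R = R} := ⟨fun R => hcon R.1 R.2⟩
  have h0 : Nat.card {R : Sylow r L // φ • R = R} = 0 := Nat.card_of_isEmpty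
  rw [h0] at h1
  obtain ⟨R⟩ : Nonempty (Sylow r L) := inferInstance
  have h2 := (Nat.modEq_zero_iff_dvd.mp h1).trans (R.card_dvd_index.trans R.index_dvd_card)
  exact hpL h2

theorem num (e : ℕ) (he : e ∈ ({1, 2, 4, 3, 5, 11} : Finset ℕ)) (d : ℕ) (hd : d ∣ e) (p : ℕ)
    (hp : p = 7 ∨ p = 11 ∨ p = 19) (hmod : e ≡ d [MOD p]) : d = e := by
  have h1 : d ≤ e := Nat.le_of_dvd (by
    simp only [Finset.mem_insert, Finset.mem_singleton] at he
    omega) hd
  simp only [Finset.mem_insert, Finset.mem_singleton] at he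
  rcases he with rfl | rfl | rfl | rfl | rfl | rfl <;> interval_cases d <;>
    rcases hp with rfl | rfl | rfl <;> revert hd hmod <;> decide

/-- automorphisms of order 7, 11, 19 prime to the group order, of groups of order 60 and 660, are trivial -/
theorem aut_trivial (hL : Nat.card L = 60 ∨ Nat.card L = 660) {p : ℕ}
    (hp : p = 7 ∨ p = 11 ∨ p = 19) (hpL : ¬ p ∣ Nat.card L) {φ : MulAut L} (hφ : φ ^ p = 1) :
    φ = 1 := by
  have hpp : p.Prime := by rcases hp with rfl | rfl | rfl <;> norm_num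
  have key : ∀ r k : ℕ, r.Prime → r ^ k ∣ Nat.card L → (∀ j, r ^ j ∣ 660 → r ^ j ∈ ({1, 2, 4, 3, 5, 11} : Finset ℕ)) →
      r ^ k ∣ Nat.card (fix φ) := by
    intro r k hr hk hset
    have : Fact r.Prime := ⟨hr⟩
    obtain ⟨R, hR⟩ := exists_fixed_sylow φ hpp hφ hpL r
    have hR' : φ • (R : Subgroup L) = (R : Subgroup L) := by
      rw [← Sylow.pointwise_smul_def, hR]
    have h1 := card_inf_modEq φ (n := 1) hpp (by rwa [pow_one]) (R : Subgroup L) hR'
    obtain ⟨j, hj⟩ := IsPGroup.iff_card.mp R.2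
    have h2 : r ^ j ∣ 660 := by
      have h3 : Nat.card (R : Subgroup L) ∣ Nat.card L := (R : Subgroup L).card_subgroup_dvd_card
      rw [hj] at h3
      rcases hL with h | h
      · rw [h] at h3; exact h3.trans (by norm_num)
      · rw [h] at h3; exact h3
    have h3 : Nat.card (((R : Subgroup L) ⊓ fix φ : Subgroup L)) ∣ Nat.card (R : Subgroup L) :=
      card_dvd_of_le inf_le_left
    have h4 := num (Nat.card (R : Subgroup L)) (by rw [hj]; exact hset j h2) _ h3 p hp h1
    have h5 : r ^ k ∣ Nat.card (R : Subgroup L) := R.pow_dvd_card_of_pow_dvd_card hk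
    rw [← h4] at h5
    exact h5.trans (card_dvd_of_le inf_le_right)
  have k2 : ∀ j, 2 ^ j ∣ 660 → 2 ^ j ∈ ({1, 2, 4, 3, 5, 11} : Finset ℕ) := by
    intro j hj
    have : j < 3 := by
      by_contra h
      have := (pow_dvd_pow 2 (not_lt.mp h)).trans hj
      revert this; decide
    interval_cases j <;> decide
  have k3 : ∀ j, 3 ^ j ∣ 660 → 3 ^ j ∈ ({1, 2, 4, 3, 5, 11} : Finset ℕ) := by
    intro j hj
    have : j < 2 := by
      by_contra h
      have := (pow_dvd_pow 3 (not_lt.mp h)).trans hj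
      revert this; decide
    interval_cases j <;> decide
  have k5 : ∀ j, 5 ^ j ∣ 660 → 5 ^ j ∈ ({1, 2, 4, 3, 5, 11} : Finset ℕ) := by
    intro j hj
    have : j < 2 := by
      by_contra h
      have := (pow_dvd_pow 5 (not_lt.mp h)).trans hj
      revert this; decide
    interval_cases j <;> decide
  have k11 : ∀ j, 11 ^ j ∣ 660 → 11 ^ j ∈ ({1, 2, 4, 3, 5, 11} : Finset ℕ) := by
    intro j hj
    have : j < 2 := by
      by_contra h
      have := (pow_dvd_pow 11 (not_lt.mp h)).trans hj
      revert this; decide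
    interval_cases j <;> decide
  apply eq_one_of_fix
  apply Subgroup.eq_top_of_le_card
  apply Nat.le_of_dvd Nat.card_pos
  rcases hL with h | h
  · have h2 := key 2 2 (by norm_num) (by rw [h]; norm_num) k2
    have h3 := key 3 1 (by norm_num) (by rw [h]; norm_num) k3
    have h5 := key 5 1 (by norm_num) (by rw [h]; norm_num) k5
    rw [h]
    have h6 := Nat.Coprime.mul_dvd_of_dvd_of_dvd (by norm_num) h2 h3
    exact Nat.Coprime.mul_dvd_of_dvd_of_dvd (by norm_num) h6 h5
  · have h2 := key 2 2 (by norm_num) (by rw [h]; norm_num) k2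
    have h3 := key 3 1 (by norm_num) (by rw [h]; norm_num) k3
    have h5 := key 5 1 (by norm_num) (by rw [h]; norm_num) k5
    have h11 := key 11 1 (by norm_num) (by rw [h]; norm_num) k11
    rw [h]
    have h6 := Nat.Coprime.mul_dvd_of_dvd_of_dvd (by norm_num) h2 h3
    have h7 := Nat.Coprime.mul_dvd_of_dvd_of_dvd (by norm_num) h6 h5
    exact Nat.Coprime.mul_dvd_of_dvd_of_dvd (by norm_num) h7 h11

/-- the number of Sylow 11-subgroups of a simple group of order 660 -/
theorem card_sylow_eleven [IsSimpleGroup L] (hL : Nat.card L = 660) :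
    haveI : Fact (Nat.Prime 11) := ⟨by norm_num⟩
    Nat.card (Sylow 11 L) = 12 ∧ ∀ R : Sylow 11 L, Nat.card (R : Subgroup L) = 11 := by
  have h11 : Fact (Nat.Prime 11) := ⟨by norm_num⟩
  have hR : ∀ R : Sylow 11 L, Nat.card (R : Subgroup L) = 11 := by
    intro R
    obtain ⟨j, hj⟩ := IsPGroup.iff_card.mp R.2
    have h1 : 11 ^ 1 ∣ Nat.card (R : Subgroup L) :=
      R.pow_dvd_card_of_pow_dvd_card (by rw [hL]; norm_num)
    have h3 : Nat.card (R : Subgroup L) ∣ Nat.card L := (R : Subgroup L).card_subgroup_dvd_card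
    rw [hj, hL] at h3
    have : j < 2 := by
      by_contra h
      have := (pow_dvd_pow 11 (not_lt.mp h)).trans h3
      revert this; decide
    rw [hj] at h1 ⊢
    interval_cases j
    · revert h1; decide
    · norm_num
  refine ⟨?_, hR⟩
  obtain ⟨R⟩ : Nonempty (Sylow 11 L) := inferInstance
  have h1 := R.card_dvd_index
  have h2 : (R : Subgroup L).index = 60 := by
    have := (R : Subgroup L).card_mul_index
    rw [hR, hL] at this
    omega
  rw [h2] at h1
  have h3 : Nat.card (Sylow 11 L) ≡ 1 [MOD 11] := card_sylow_modEq_one 11 L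
  have h4 : Nat.card (Sylow 11 L) ≠ 1 := by
    intro h
    have h5 : Subsingleton (Sylow 11 L) := (Nat.card_eq_one_iff_unique.mp h).1
    have h6 : (R : Subgroup L).Normal := Sylow.normal_of_subsingleton R
    rcases h6.eq_bot_or_eq_top with h7 | h7
    · have := hR R
      rw [h7, Subgroup.card_bot] at this
      norm_num at this
    · rw [h7, index_top] at h2
      norm_num at h2
  have h5 : Nat.card (Sylow 11 L) ≤ 60 := Nat.le_of_dvd (by norm_num) h1
  generalize Nat.card (Sylow 11 L) = m at *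
  interval_cases m <;> revert h1 h3 h4 <;> decide

/-- an automorphism of 11-power order fixing two Sylow 11-subgroups of a simple group of order 660 -/
theorem aut_eleven [IsSimpleGroup L] (hL : Nat.card L = 660) {φ : MulAut L} {n : ℕ}
    (hφ : φ ^ 11 ^ n = 1) [Fact (Nat.Prime 11)] {R R' : Sylow 11 L} (hne : R ≠ R') (h1 : φ • R = R)
    (h2 : φ • R' = R') : φ = 1 := by
  have h11 : Nat.Prime 11 := by norm_num
  obtain ⟨hc, hcR⟩ := card_sylow_eleven hL
  have h3 := card_fixed_sylow_modEq φ h11 hφ 11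
  rw [hc] at h3
  have h4 : 1 < Nat.card {R : Sylow 11 L // φ • R = R} := by
    rw [Finite.one_lt_card_iff_nontrivial]
    exact ⟨⟨R, h1⟩, ⟨R', h2⟩, fun h => hne (congrArg Subtype.val h)⟩
  have h5 : Nat.card {R : Sylow 11 L // φ • R = R} ≤ 12 := by
    rw [← hc]; exact Nat.card_le_card_of_injective _ Subtype.val_injective
  have h6 : Nat.card {R : Sylow 11 L // φ • R = R} = 12 := by
    generalize Nat.card {R : Sylow 11 L // φ • R = R} = m at *
    interval_cases m <;> revert h3 <;> decide
  -- all Sylow subgroups are fixed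
  have h7 : ∀ Q : Sylow 11 L, φ • Q = Q := by
    intro Q
    have hb : Function.Bijective (Subtype.val : {R : Sylow 11 L // φ • R = R} → Sylow 11 L) :=
      (Nat.bijective_iff_injective_and_card _).mpr ⟨Subtype.val_injective, by rw [h6, hc]⟩
    obtain ⟨⟨Q', hQ'⟩, rfl⟩ := hb.2 Q
    exact hQ'
  have h8 : ∀ Q : Sylow 11 L, (Q : Subgroup L) ≤ fix φ := by
    intro Q
    have hQ : φ • (Q : Subgroup L) = (Q : Subgroup L) := by
      rw [← Sylow.pointwise_smul_def, h7]
    have h9 := card_inf_modEq φ h11 hφ (Q : Subgroup L) hQ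
    rw [hcR] at h9
    have h10 : Nat.card (((Q : Subgroup L) ⊓ fix φ : Subgroup L)) ∣ Nat.card (Q : Subgroup L) :=
      card_dvd_of_le inf_le_left
    rw [hcR, Nat.dvd_prime h11] at h10
    have h12 : (Q : Subgroup L) ⊓ fix φ = Q := by
      apply Subgroup.eq_of_le_of_card_ge inf_le_left
      rw [hcR]
      rcases h10 with h | h
      · rw [h] at h9
        exact absurd h9 (by decide)
      · rw [h]
    exact inf_eq_left.mp h12
  -- they generate
  apply eq_one_of_fix
  have hn : (⨆ Q : Sylow 11 L, (Q : Subgroup L)).Normal := by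
    constructor
    intro x hx g
    have h9 : (⨆ Q : Sylow 11 L, (Q : Subgroup L)).map (MulAut.conj g).toMonoidHom ≤
        ⨆ Q : Sylow 11 L, (Q : Subgroup L) := by
      rw [Subgroup.map_iSup]
      refine iSup_le fun Q => ?_
      have h10 : (Q : Subgroup L).map (MulAut.conj g).toMonoidHom =
          ((g • Q : Sylow 11 L) : Subgroup L) := rfl
      rw [h10]
      exact le_iSup (fun Q : Sylow 11 L => (Q : Subgroup L)) (g • Q)
    exact h9 ⟨x, hx, rfl⟩
  rcases hn.eq_bot_or_eq_top with h | h
  · exfalso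
    have h9 : (R : Subgroup L) = ⊥ := by
      rw [eq_bot_iff, ← h]
      exact le_iSup (fun Q : Sylow 11 L => (Q : Subgroup L)) R
    have := hcR R
    rw [h9, Subgroup.card_bot] at this
    norm_num at this
  · rw [eq_top_iff, ← h]
    exact iSup_le h8

/-- 11-subgroups of the automorphism group of a simple group of order 660 -/
theorem card_le_eleven [IsSimpleGroup L] (hL : Nat.card L = 660) (P : Subgroup (MulAut L))
    (hP : IsPGroup 11 P) : Nat.card P ≤ 11 := by
  have h11 : Fact (Nat.Prime 11) := ⟨by norm_num⟩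
  obtain ⟨hc, hcR⟩ := card_sylow_eleven hL
  by_contra hcon
  push Not at hcon
  obtain ⟨R, hR⟩ := hP.nonempty_fixed_point_of_prime_not_dvd_card (Sylow 11 L) (by rw [hc]; decide)
  have hR' : ∀ g : P, (g : MulAut L) • R = R := fun g => hR g
  have h1 : 1 < Nat.card (Sylow 11 L) := by rw [hc]; norm_num
  rw [Finite.one_lt_card_iff_nontrivial] at h1
  obtain ⟨R', hne⟩ := exists_ne R
  let f : P → {Q : Sylow 11 L // Q ≠ R} := fun g => ⟨(g : MulAut L) • R', by
    intro h
    apply hne
    rw [← hR' g] at h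
    exact (MulAction.injective (g : MulAut L)) h⟩
  have hcard : Nat.card {Q : Sylow 11 L // Q ≠ R} = 11 := by
    classical
    have := Fintype.ofFinite (Sylow 11 L)
    rw [Nat.card_eq_fintype_card, Fintype.card_subtype_compl]
    simp [← Nat.card_eq_fintype_card, hc]
  have hninj : ¬ Function.Injective f := by
    intro h
    have := Nat.card_le_card_of_injective f h
    omega
  rw [Function.not_injective_iff] at hninj
  obtain ⟨g, h, hgh, hne2⟩ := hninj
  have h2 : (g : MulAut L) • R' = (h : MulAut L) • R' := congrArg Subtype.val hgh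
  obtain ⟨n, hn⟩ := hP (h⁻¹ * g)
  have h3 : ((h⁻¹ * g : P) : MulAut L) ^ 11 ^ n = 1 := by
    rw [← Subgroup.coe_pow, hn]; rfl
  have h4 := aut_eleven hL h3 hne.symm (hR' _) (by
    show ((h : MulAut L)⁻¹ * (g : MulAut L)) • R' = R'
    rw [mul_smul, h2, inv_smul_smul])
  apply hne2
  have h5 : h⁻¹ * g = 1 := Subtype.ext h4
  exact (inv_mul_eq_one.mp h5).symm

end Cfsg.Agent.H389.Small
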