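import Cfsg.Agent.H389.JZero

/-!
# Odd kernels of homomorphisms onto `J₁` and `J₁ × J₁` (helper389)
-/

set_option autoImplicit false

namespace Cfsg.Agent.H389.JSq

open Subgroup
open Cfsg.Spor (J1)
open scoped commutatorElement

universe u

section gen

/-- a nontrivial solvable normal subgroup contains a nontrivial elementary abelian normal subgroup -/
theorem exists_elem {X : Type*} [Group X] [Finite X] (K : Subgroup X) [hKn : K.Normal]
    (hK : Group.IsSolvable K) (hK1 : K ≠ ⊥) :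
    ∃ (V : Subgroup X) (r : ℕ), r.Prime ∧ V.Normal ∧ V ≤ K ∧ V ≠ ⊥ ∧ (∀ a ∈ V, ∀ b ∈ V, a * b = b * a) ∧
      ∀ v ∈ V, v ^ r = 1 := by
  classical
  obtain ⟨A, hAn, hAK, hA1, hA⟩ : ∃ A : Subgroup X, A.Normal ∧ A ≤ K ∧ A ≠ ⊥ ∧
      ∀ a ∈ A, ∀ b ∈ A, a * b = b * a := by
    obtain ⟨n, hn⟩ := hK.solvable
    have hex : ∃ n, derivedSeries K n = ⊥ := ⟨n, hn⟩
    have h1 := Nat.find_spec hex
    have h0 : Nat.find hex ≠ 0 := by
      intro h0
      rw [h0, derivedSeries_zero] at h1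
      apply hK1
      rw [eq_bot_iff]
      intro x hx
      have : (⟨x, hx⟩ : K) ∈ (⊤ : Subgroup K) := mem_top _
      rw [h1, mem_bot] at this
      exact congrArg Subtype.val this
    obtain ⟨m, hm⟩ : ∃ m, Nat.find hex = m + 1 := ⟨_, (Nat.succ_pred_eq_of_ne_zero h0).symm⟩
    have h2 : derivedSeries K m ≠ ⊥ := Nat.find_min hex (by omega)
    rw [hm, derivedSeries_succ] at h1
    refine ⟨(derivedSeries K m).map K.subtype, inferInstance, map_subtype_le _, ?_, ?_⟩
    · intro h3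
      apply h2
      rwa [Subgroup.map_eq_bot_iff_of_injective _ K.subtype_injective] at h3
    · rintro _ ⟨a, ha, rfl⟩ _ ⟨b, hb, rfl⟩
      have h3 : ⁅a, b⁆ ∈ ⁅derivedSeries K m, derivedSeries K m⁆ := commutator_mem_commutator ha hb
      rw [h1, mem_bot, commutatorElement_eq_one_iff_mul_comm] at h3
      rw [← map_mul, h3, map_mul]
  have hc : Nat.card A ≠ 1 := by
    intro h
    exact hA1 (Subgroup.eq_bot_of_card_eq _ h)
  obtain ⟨r, hr, hrd⟩ := Nat.exists_prime_and_dvd hc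
  have hrf : Fact r.Prime := ⟨hr⟩
  let V : Subgroup X :=
    { carrier := {a | a ∈ A ∧ a ^ r = 1}
      one_mem' := ⟨one_mem _, one_pow _⟩
      mul_mem' := by
        rintro a b ⟨ha, ha1⟩ ⟨hb, hb1⟩
        refine ⟨mul_mem ha hb, ?_⟩
        have h1 : Commute a b := hA a ha b hb
        rw [h1.mul_pow, ha1, hb1, one_mul]
      inv_mem' := by
        rintro a ⟨ha, ha1⟩
        exact ⟨inv_mem ha, by rw [inv_pow, ha1, inv_one]⟩ }
  refine ⟨V, r, hr, ⟨?_⟩, fun a ha => hAK ha.1, ?_, fun a ha b hb => hA a ha.1 b hb.1, fun v hv => hv.2⟩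
  · rintro a ⟨ha, ha1⟩ g
    refine ⟨hAn.conj_mem a ha g, ?_⟩
    rw [conj_pow, ha1, mul_one, mul_inv_cancel]
  · obtain ⟨x, hx⟩ := exists_prime_orderOf_dvd_card' (G := A) r hrd
    intro h
    have h1 : (x : X) ∈ V := ⟨x.2, by rw [← Subgroup.coe_pow, ← hx, pow_orderOf_eq_one]; rfl⟩
    rw [h, mem_bot] at h1
    have h2 : x = 1 := Subtype.ext h1
    rw [h2, orderOf_one] at hx
    exact hr.one_lt.ne hx

theorem card_ker_mul {X Y : Type*} [Group X] [Finite X] [Group Y] (f : X →* Y)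
    (hf : Function.Surjective f) : Nat.card f.ker * Nat.card Y = Nat.card X := by
  rw [← f.ker.card_mul_index, index_ker, MonoidHom.range_eq_top.mpr hf, Subgroup.card_top]

/-- passing to the quotient by a normal subgroup of the kernel -/
theorem quot_facts {X Y : Type*} [Group X] [Finite X] [Group Y] [Finite Y] (f : X →* Y)
    (hf : Function.Surjective f)
    (V : Subgroup X) [V.Normal] (hV : V ≤ f.ker) :
    Function.Surjective (QuotientGroup.lift V f hV) ∧
      Nat.card f.ker = Nat.card (QuotientGroup.lift V f hV).ker * Nat.card V := by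
  have h1 : Function.Surjective (QuotientGroup.lift V f hV) := by
    intro y
    obtain ⟨x, rfl⟩ := hf y
    exact ⟨(x : X ⧸ V), rfl⟩
  refine ⟨h1, ?_⟩
  have h2 := card_ker_mul f hf
  have h3 := card_ker_mul _ h1
  have h4 := Subgroup.card_eq_card_quotient_mul_card_subgroup V
  rw [← h3, ← h2] at h4
  have h5 : 0 < Nat.card Y := Nat.card_pos
  apply Nat.eq_of_mul_eq_mul_right h5
  rw [h4]; ring

theorem solvable_ker_lift {X Y : Type*} [Group X] [Group Y] (f : X →* Y)
    (V : Subgroup X) [V.Normal] (hV : V ≤ f.ker) (hs : Group.IsSolvable f.ker) :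
    Group.IsSolvable (QuotientGroup.lift V f hV).ker := by
  have h1 : ∀ x : f.ker, (QuotientGroup.mk' V (x : X)) ∈ (QuotientGroup.lift V f hV).ker := by
    intro x
    exact x.2
  let g : f.ker →* (QuotientGroup.lift V f hV).ker :=
    ((QuotientGroup.mk' V).comp f.ker.subtype).codRestrict _ h1
  apply Group.isSolvable_of_surjective (f := g)
  rintro ⟨y, hy⟩
  obtain ⟨x, rfl⟩ := QuotientGroup.mk'_surjective V y
  exact ⟨⟨x, hy⟩, rfl⟩

theorem card_quot_lt {X : Type*} [Group X] [Finite X] (V : Subgroup X) (hV : V ≠ ⊥) :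
    Nat.card (X ⧸ V) < Nat.card X := by
  have h1 := Subgroup.card_eq_card_quotient_mul_card_subgroup V
  have h2 : 1 < Nat.card V := by
    rw [Subgroup.one_lt_card_iff_ne_bot]; exact hV
  have h3 : 0 < Nat.card (X ⧸ V) := Nat.card_pos
  rw [h1]
  nlinarith

theorem dvd_card_exp {X : Type*} [Group X] [Finite X] {V : Subgroup X} {r : ℕ} (hr : r.Prime)
    (hexp : ∀ v ∈ V, v ^ r = 1) {p : ℕ} (hp : p.Prime) (h : p ∣ Nat.card V) : p = r := by
  obtain ⟨x, hx, hxp⟩ := H381.Tools.exists_mem_of_dvd hp h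
  have h1 := orderOf_dvd_of_pow_eq_one (hexp x hx)
  rw [hxp] at h1
  exact (Nat.prime_dvd_prime_iff_eq hp hr).mp h1

theorem orderOf_exp {X : Type*} [Group X] {V : Subgroup X} {r : ℕ} (hr : r.Prime)
    (hexp : ∀ v ∈ V, v ^ r = 1) {v : X} (hv : v ∈ V) (h1 : v ≠ 1) : orderOf v = r := by
  have : Fact r.Prime := ⟨hr⟩
  exact orderOf_eq_prime (hexp v hv) h1

theorem isPGroup_exp {X : Type*} [Group X] {V : Subgroup X} {r : ℕ}
    (hexp : ∀ v ∈ V, v ^ r = 1) : IsPGroup r V := by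
  intro v
  exact ⟨1, by rw [pow_one]; exact Subtype.ext (hexp v v.2)⟩

end gen

theorem Cl.sq {X : Type*} [Group X] (h : Cl X) (x : X) : ¬ 49 ∣ orderOf x := by
  intro h1
  exact om_sq _ (h x) 7 (by simp) (by norm_num) h1

/-- **Lemma J** -/
theorem lemJ_aux (n : ℕ) : ∀ (X : Type u) [Group X] [Finite X], Nat.card X = n → Cl X →
    ∀ f : X →* J1, Function.Surjective f → Odd (Nat.card f.ker) → Group.IsSolvable f.ker →
    ∀ p ∈ pi, p ∣ Nat.card f.ker → ∃ q ∈ pi, q ≠ p ∧ Has X (p * q) := by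
  induction n using Nat.strong_induction_on with
  | _ n ih =>
  intro X _ _ hn hcl f hf hodd hsol p hp hpd
  have hpp := pi_prime hp
  have hker1 : f.ker ≠ ⊥ := by
    intro h
    rw [h, Subgroup.card_bot] at hpd
    exact hpp.one_lt.ne' (Nat.dvd_one.mp hpd)
  obtain ⟨V, r, hr, hVn, hVK, hV1, hVc, hexp⟩ := exists_elem f.ker hsol hker1
  have hro : Odd r := by
    obtain ⟨⟨v, hv⟩, hv1⟩ := Subgroup.ne_bot_iff_exists_ne_one.mp hV1
    have h1 : orderOf v = r := orderOf_exp hr hexp hv (by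
      rintro rfl
      exact hv1 rfl)
    have h2 : r ∣ Nat.card f.ker := by
      rw [← h1]; exact Subgroup.orderOf_dvd_natCard _ (hVK hv)
    exact hodd.of_dvd_nat h2
  by_cases hrp : r = p
  · -- the case of a `p`-group
    subst hrp
    by_contra hcon
    push Not at hcon
    have hN : ∀ x : X, orderOf x = 7 → f x ≠ 1 → ∀ v ∈ V, (v * x) ^ 7 = 1 := by
      intro x hx _ v hv
      by_cases h7 : r = 7
      · subst h7
        have h1 : IsPGroup 7 (zpowers x) := H381.Tools.isPGroup_zpowers (by norm_num) hx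
        have h2 : IsPGroup 7 ↥(V ⊔ zpowers x) :=
          IsPGroup.to_sup_of_normal_left (isPGroup_exp hexp) h1
        exact hcl.pow_eq_one (by norm_num) h2 (mul_mem_sup hv (mem_zpowers x))
      · by_contra h1
        obtain ⟨h2, h3⟩ := norm_comm V hVc (n := 7) (by rw [← hx]; exact pow_orderOf_eq_one x) hv
        refine hcon 7 (by decide) (Ne.symm h7) ?_
        exact Has.of_commute h3.symm (orderOf_exp hr hexp h2 h1) hx
          ((Nat.coprime_primes hr (by norm_num)).mpr h7)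
    have h1 := map_centralizer f V hf hodd hcl.sq hVc hro hexp hN
    obtain ⟨q, hq, hqr⟩ : ∃ q ∈ pi, q ≠ r := by
      by_cases h7 : r = 7
      · exact ⟨11, by decide, by rw [h7]; norm_num⟩
      · exact ⟨7, by decide, Ne.symm h7⟩
    have hqp := pi_prime hq
    have hqJ : q ∣ Nat.card J1 := by
      rw [H413.JOneLocal.card_J1]
      exact (by decide : ∀ q ∈ pi, q ∣ 175560) q hq
    obtain ⟨y, hy⟩ := Has.of_prime_dvd hqp hqJ
    have h2 : y ∈ (centralizer (V : Set X)).map f := by rw [h1]; exact mem_top y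
    obtain ⟨c, hc, rfl⟩ := h2
    have h3 : q ∣ orderOf c := by rw [← hy]; exact orderOf_map_dvd f c
    have h4 := orderOf_pow_div' h3
    obtain ⟨⟨v, hv⟩, hv1⟩ := Subgroup.ne_bot_iff_exists_ne_one.mp hV1
    have h5 : orderOf v = r := orderOf_exp hr hexp hv (by
      rintro rfl
      exact hv1 rfl)
    have h6 : Commute v c := mem_centralizer_iff.mp hc v hv
    exact hcon q hq hqr (Has.of_commute (h6.pow_right _) h5 h4
      ((Nat.coprime_primes hr hqp).mpr hqr.symm))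
  · -- pass to the quotient
    obtain ⟨h1, h2⟩ := quot_facts f hf V hVK
    have h3 : p ∣ Nat.card (QuotientGroup.lift V f hVK).ker := by
      rw [h2] at hpd
      rcases (Nat.Prime.dvd_mul hpp).mp hpd with h | h
      · exact h
      · exact (hrp (dvd_card_exp hr hexp hpp h).symm).elim
    have h4 : Odd (Nat.card (QuotientGroup.lift V f hVK).ker) := by
      rw [h2] at hodd
      exact (Nat.odd_mul.mp hodd).1
    obtain ⟨q, hq, hqp, h5⟩ := ih _ (by rw [← hn]; exact card_quot_lt V hV1) (X ⧸ V) rfl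
      (hcl.quotient V) _ h1 h4 (solvable_ker_lift f V hVK hsol) p hp h3
    exact ⟨q, hq, hqp, h5.of_surjective (QuotientGroup.mk' V) (QuotientGroup.mk'_surjective V)⟩

theorem lemJ {X : Type u} [Group X] [Finite X] (hcl : Cl X) (f : X →* J1)
    (hf : Function.Surjective f) (hodd : Odd (Nat.card f.ker)) (hsol : Group.IsSolvable f.ker)
    {p : ℕ} (hp : p ∈ pi) (hpd : p ∣ Nat.card f.ker) : ∃ q ∈ pi, q ≠ p ∧ Has X (p * q) :=
  lemJ_aux _ X rfl hcl f hf hodd hsol p hp hpd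

/-- **Lemma K** -/
theorem lemK {C : Type*} [Group C] [Finite C] (g : C →* J1) (hg : Function.Surjective g)
    (hW1 : g.ker ≠ ⊥) (hWc : ∀ a ∈ g.ker, ∀ b ∈ g.ker, a * b = b * a) {r : ℕ} (hr : r.Prime)
    (hexp : ∀ v ∈ g.ker, v ^ r = 1) {p m : ℕ} (hp : p = 11 ∨ p = 19) {yb wb : J1}
    (hyb : orderOf yb = p) (hwb : orderOf wb = m) (hm : 0 < m) (hpm : p.Coprime m)
    (hwy : wb * yb * wb⁻¹ ∈ zpowers yb) (hpr : p ≠ r) (hmr : ¬ r ∣ m) :
    ∃ v ∈ g.ker, v ≠ 1 ∧ ((∃ y : C, orderOf y = p ∧ Commute y v) ∨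
      ∃ w : C, orderOf w = m ∧ Commute w v) := by
  have hpp : p.Prime := by rcases hp with rfl | rfl <;> norm_num
  have hpf : Fact p.Prime := ⟨hpp⟩
  have hp3 : p = 7 ∨ p = 11 ∨ p = 19 := Or.inr hp
  have hkp : p.Coprime (Nat.card g.ker) := by
    rw [Nat.Prime.coprime_iff_not_dvd hpp]
    intro h
    exact hpr (dvd_card_exp hr hexp hpp h)
  have hkm : m.Coprime (Nat.card g.ker) := by
    apply Nat.Coprime.symm
    rw [Nat.coprime_iff_gcd_eq_one]
    by_contra h
    obtain ⟨q, hq, hqd⟩ := Nat.exists_prime_and_dvd h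
    have h1 := dvd_card_exp hr hexp hq (hqd.trans (Nat.gcd_dvd_left _ _))
    rw [h1] at hqd
    exact hmr (hqd.trans (Nat.gcd_dvd_right _ _))
  obtain ⟨y, hy, hyp⟩ := exists_lift_surj g hg hyb hkp
  obtain ⟨w0, hw0⟩ := hg wb
  obtain ⟨k, hk⟩ := mem_zpowers_iff.mp hwy
  -- `w0` can be chosen to normalise `⟨y⟩`
  have e1 : g (w0 * y * w0⁻¹) = g (y ^ k) := by
    rw [map_mul, map_mul, map_inv, map_zpow, hw0, hy, hk]
  have e2 : orderOf (w0 * y * w0⁻¹) = p := by
    rw [← hyp]; exact (MulAut.conj w0).orderOf_eq y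
  have e3 : (orderOf (y ^ k)).Coprime (Nat.card g.ker) := by
    refine Nat.Coprime.coprime_dvd_left ?_ hkp
    apply orderOf_dvd_of_pow_eq_one
    rw [← zpow_natCast, ← zpow_mul, mul_comm, zpow_mul, zpow_natCast, ← hyp, pow_orderOf_eq_one,
      one_zpow]
  obtain ⟨n, hn, hnc⟩ := conj_of_map_eq g (by rw [e2]; exact hkp) e3 e1
  have hw1 : (n * w0) * y * (n * w0)⁻¹ ∈ zpowers y := by
    have : (n * w0) * y * (n * w0)⁻¹ = n * (w0 * y * w0⁻¹) * n⁻¹ := by group
    rw [this, hnc]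
    exact zpow_mem (mem_zpowers y) k
  have hgw1 : g (n * w0) = wb := by
    rw [map_mul, (MonoidHom.mem_ker).mp hn, one_mul, hw0]
  obtain ⟨j, hj, hjm⟩ := exists_lift g (g := n * w0) (n := m) (by rw [hgw1, hwb]) hkm
  set w := (n * w0) ^ j with hw
  have hgw : g w = wb := by rw [hj, hgw1]
  -- `w` normalises `⟨y⟩`
  have hnorm : ∀ a ∈ zpowers y, (n * w0) * a * (n * w0)⁻¹ ∈ zpowers y := by
    intro a ha
    obtain ⟨i, rfl⟩ := mem_zpowers_iff.mp ha
    have : (n * w0) * y ^ i * (n * w0)⁻¹ = ((n * w0) * y * (n * w0)⁻¹) ^ i := by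
      rw [conj_zpow]
    rw [this]
    exact zpow_mem hw1 i
  have hpow : ∀ l : ℕ, ∀ a ∈ zpowers y, (n * w0) ^ l * a * ((n * w0) ^ l)⁻¹ ∈ zpowers y := by
    intro l
    induction l with
    | zero => intro a ha; simpa using ha
    | succ l ih =>
      intro a ha
      have h1 := ih _ (hnorm a ha)
      have h2 : (n * w0) ^ (l + 1) * a * ((n * w0) ^ (l + 1))⁻¹ =
          (n * w0) ^ l * ((n * w0) * a * (n * w0)⁻¹) * ((n * w0) ^ l)⁻¹ := by
        rw [pow_succ]; group
      rw [h2]; exact h1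
  have hyord : ∀ a ∈ zpowers y, a ≠ 1 → orderOf a = p := by
    intro a ha ha1
    apply orderOf_eq_prime _ ha1
    obtain ⟨i, rfl⟩ := mem_zpowers_iff.mp ha
    rw [← zpow_natCast, ← zpow_mul, mul_comm, zpow_mul, zpow_natCast, ← hyp, pow_orderOf_eq_one,
      one_zpow]
  have hfree : ∀ i, 0 < i → i < m → ∀ a ∈ zpowers y, w ^ i * a * (w ^ i)⁻¹ = a → a = 1 := by
    intro i hi him a ha hc
    by_contra ha1
    have h1 := hyord a ha ha1
    have h2 : Commute (g a) (g (w ^ i)) := by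
      have := congrArg g (mul_inv_eq_iff_eq_mul.mp hc)
      rw [map_mul, map_mul] at this
      exact this.symm
    have h3 : orderOf (g a) = p := by
      rw [orderOf_map_eq g (by rw [h1]; exact hkp), h1]
    have h4 : orderOf (g (w ^ i)) ∣ m := by
      rw [map_pow, hgw, ← hwb]
      exact orderOf_pow_dvd i
    have h5 := JFacts.eq_one_of_comm hp3 h3 h2 (Nat.Coprime.coprime_dvd_right h4 hpm)
    rw [map_pow, hgw, ← orderOf_dvd_iff_pow_eq_one, hwb] at h5
    have := Nat.le_of_dvd hi h5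
    omega
  have hkn : g.ker.Normal := inferInstance
  have hwm : w ^ m = 1 := by rw [← hjm]; exact pow_orderOf_eq_one w
  by_cases hN : ∀ v ∈ g.ker, (v * w) ^ m = 1
  · obtain ⟨⟨v, hv⟩, hv1⟩ := Subgroup.ne_bot_iff_exists_ne_one.mp hW1
    refine ⟨v, hv, ?_, Or.inl ⟨y, hyp, ?_⟩⟩
    · rintro rfl
      exact hv1 rfl
    · have h1 := comm_pow g.ker hWc (zpowers y) hm (fun a ha => hpow j a ha) hfree hwm hN hv y
        (mem_zpowers y)
      rw [Nat.card_zpowers, hyp] at h1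
      exact commute_of_pow h1 (hexp v hv) ((Nat.coprime_primes hpp hr).mpr hpr)
  · push Not at hN
    obtain ⟨v, hv, hv1⟩ := hN
    obtain ⟨h1, h2⟩ := norm_comm g.ker hWc hwm hv
    exact ⟨_, h1, hv1, Or.inr ⟨w, hjm, h2⟩⟩

end Cfsg.Agent.H389.JSq
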