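import Cfsg.Agent.H389.Part
import Cfsg.Agent.H389.Basic
import Cfsg.Agent.H389.JFacts

/-!
# Groups with quotient `J₁` acting on an abelian normal subgroup (helper389)
-/

set_option autoImplicit false

namespace Cfsg.Agent.H389.JSq

open Subgroup Finset
open Cfsg.Spor (J1)

section norm

variable {X : Type*} [Group X] (V : Subgroup X) [hVn : V.Normal]

/-- the commutative group structure -/
abbrev cg {V : Subgroup X} (hV : ∀ a ∈ V, ∀ b ∈ V, a * b = b * a) : CommGroup V :=
  { (inferInstance : Group V) with mul_comm := fun a b => Subtype.ext (hV a a.2 b b.2) }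

/-- the norm of `x` -/
theorem norm_coe (hV : ∀ a ∈ V, ∀ b ∈ V, a * b = b * a) (x : X) (v : V) (n : ℕ) :
    letI := cg hV
    ((∏ i ∈ range n, (MulAut.conjNormal (H := V) (x ^ i)) v : V) : X) = ((v : X) * x) ^ n * (x ^ n)⁻¹ := by
  let _ := cg hV
  induction n with
  | zero => simp
  | succ k ih =>
    rw [Finset.prod_range_succ]
    have h1 : ((((∏ i ∈ range k, (MulAut.conjNormal (H := V) (x ^ i)) v : V)) *
        (MulAut.conjNormal (H := V) (x ^ k)) v : V) : X) =
        ((∏ i ∈ range k, (MulAut.conjNormal (H := V) (x ^ i)) v : V) : X) *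
        ((MulAut.conjNormal (H := V) (x ^ k)) v : V) := rfl
    rw [h1, ih, MulAut.conjNormal_apply, pow_succ ((v : X) * x), pow_succ x]
    group

/-- **the norm argument**: `A` a finite subgroup normalised by `x`, on which the powers of `x` act freely, and the
norm of `x` is trivial on the abelian normal subgroup `V`: `v ^ |A|` is the product of the conjugates of `v`
under `A`, in particular it commutes with `A` -/
theorem comm_pow (hV : ∀ a ∈ V, ∀ b ∈ V, a * b = b * a) (A : Subgroup X) [Finite A] {x : X} {n : ℕ}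
    (hn : 0 < n) (hxA : ∀ a ∈ A, x * a * x⁻¹ ∈ A)
    (hfree : ∀ i, 0 < i → i < n → ∀ a ∈ A, x ^ i * a * (x ^ i)⁻¹ = a → a = 1)
    (hx : x ^ n = 1) (hN : ∀ v ∈ V, (v * x) ^ n = 1) {v : X} (hv : v ∈ V) :
    ∀ a ∈ A, Commute a (v ^ Nat.card A) := by
  let _ := cg hV
  have := Fintype.ofFinite A
  have key := Part.prod_eq (MulAut.conjNormal (H := V)) A hn hxA hfree (by
    intro v
    apply Subtype.ext
    rw [norm_coe V hV, hN _ v.2, hx]
    simp) ⟨v, hv⟩
  rw [← Nat.card_eq_fintype_card] at key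
  intro a ha
  -- conjugation by `a` permutes the factors
  have h1 : MulAut.conjNormal (H := V) a ((⟨v, hv⟩ : V) ^ Nat.card A) = (⟨v, hv⟩ : V) ^ Nat.card A := by
    rw [key, map_prod]
    let e : A ≃ A := Equiv.mulLeft ⟨a, ha⟩
    refine Fintype.prod_equiv e _ _ ?_
    intro b
    show (MulAut.conjNormal (H := V) a) ((MulAut.conjNormal (H := V) (b : X)) ⟨v, hv⟩) =
      (MulAut.conjNormal (H := V) (a * b)) ⟨v, hv⟩
    rw [map_mul, MulAut.mul_apply]
  have h2 := congrArg (Subtype.val) h1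
  rw [MulAut.conjNormal_apply] at h2
  have h3 : (((⟨v, hv⟩ : V) ^ Nat.card A : V) : X) = v ^ Nat.card A := rfl
  rw [h3] at h2
  exact mul_inv_eq_iff_eq_mul.mp h2

/-- the norm of `x` commutes with `x` -/
theorem norm_comm (hV : ∀ a ∈ V, ∀ b ∈ V, a * b = b * a) {x : X} {n : ℕ}
    (hx : x ^ n = 1) {v : X} (hv : v ∈ V) : (v * x) ^ n ∈ V ∧ Commute x ((v * x) ^ n) := by
  let _ := cg hV
  have h1 := norm_coe V hV x ⟨v, hv⟩ n
  rw [hx, inv_one, mul_one] at h1
  have h2 : (v * x) ^ n ∈ V := by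
    have h3 : ((⟨v, hv⟩ : V) : X) = v := rfl
    rw [h3] at h1
    rw [← h1]; exact SetLike.coe_mem _
  refine ⟨h2, ?_⟩
  have h3 : Commute (v * x) ((v * x) ^ n) := (Commute.refl _).pow_right n
  have h4 : Commute v ((v * x) ^ n) := hV v hv _ h2
  have h5 : x = v⁻¹ * (v * x) := by group
  have h6 : Commute (v⁻¹ * (v * x)) ((v * x) ^ n) := (h4.inv_left).mul_left h3
  rwa [← h5] at h6

end norm

section J

variable {X : Type*} [Group X] [Finite X] (f : X →* J1) (V : Subgroup X) [V.Normal]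

theorem coprime_of_pow {X : Type*} [Group X] [Finite X] {x : X} {n m : ℕ} (hx : x ^ n = 1)
    (h : n.Coprime m) : (orderOf x).Coprime m :=
  Nat.Coprime.coprime_dvd_left (orderOf_dvd_of_pow_eq_one hx) h

/-- commuting with a power -/
theorem commute_of_pow {X : Type*} [Group X] {a v : X} {m r : ℕ} (h : Commute a (v ^ m))
    (hv : v ^ r = 1) (hmr : m.Coprime r) : Commute a v := by
  have h1 : m.Coprime (orderOf v) := Nat.Coprime.coprime_dvd_right (orderOf_dvd_of_pow_eq_one hv) hmr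
  obtain ⟨u, hu⟩ := exists_pow_eq_self_of_coprime h1
  rw [← hu]
  exact h.pow_right u

theorem natCard_pow_two {X : Type*} [Group X] {P : Subgroup X} [Finite P] (hP : IsPGroup 2 P) :
    ∃ k, Nat.card P = 2 ^ k := by
  have : Fact (Nat.Prime 2) := ⟨Nat.prime_two⟩
  exact IsPGroup.iff_card.mp hP

/-- **the Sylow subgroup with an element of order 7** -/
theorem exists_T0 (hf : Function.Surjective f) (hodd : Odd (Nat.card f.ker))
    (hsq : ∀ x : X, ¬ 49 ∣ orderOf x) :
    ∃ (T : Subgroup X) (x : X), IsPGroup 2 T ∧ orderOf x = 7 ∧ f x ≠ 1 ∧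
      (∀ a ∈ T, x * a * x⁻¹ ∈ T) ∧ (∃ a ∈ T, f a ≠ 1) ∧
      (∀ i, 0 < i → i < 7 → ∀ a ∈ T, x ^ i * a * (x ^ i)⁻¹ = a → a = 1) := by
  have h2f : Fact (Nat.Prime 2) := ⟨Nat.prime_two⟩
  obtain ⟨P, z, hz, hP1, hzP⟩ := JFacts.exists_sylow
  obtain ⟨T, hT⟩ := Sylow.mapSurjective_surjective hf 2 P
  have hTP : (T : Subgroup X).map f = (P : Subgroup J1) := by
    rw [← hT]; rfl
  obtain ⟨k, hk⟩ := natCard_pow_two T.2
  have hcop : (Nat.card (T : Subgroup X)).Coprime (Nat.card f.ker) := by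
    rw [hk]
    exact Nat.Coprime.pow_left _ (Nat.coprime_two_left.mpr hodd)
  obtain ⟨y0, hy0⟩ := hf z
  -- the conjugate of `T`
  set B : Subgroup X := (T : Subgroup X).map (MulAut.conj y0).toMonoidHom with hB
  have hBT : B ≤ (T : Subgroup X) ⊔ f.ker := by
    rintro _ ⟨t, ht, rfl⟩
    have h1 : z * f t * z⁻¹ ∈ (P : Subgroup J1) := hzP _ (by rw [← hTP]; exact mem_map_of_mem f ht)
    rw [← hTP] at h1
    obtain ⟨t', ht', h2⟩ := h1
    have h3 : f (t'⁻¹ * (y0 * t * y0⁻¹)) = 1 := by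
      rw [map_mul, map_mul, map_mul, map_inv, map_inv, h2, hy0]; group
    have h4 : (MulAut.conj y0).toMonoidHom t = t' * (t'⁻¹ * (y0 * t * y0⁻¹)) := by
      show y0 * t * y0⁻¹ = _
      group
    rw [h4]
    exact mul_mem_sup ht' h3
  have hcard : Nat.card B = Nat.card (T : Subgroup X) :=
    (Nat.card_congr ((T : Subgroup X).equivMapOfInjective _ (MulAut.conj y0).injective).toEquiv).symm
  have hTn : (T : Subgroup X) ≤ normalizer (f.ker : Set X) := by
    rw [normalizer_eq_top_iff.2 inferInstance]; exact le_top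
  obtain ⟨n, hn, hnT⟩ := Cfsg.Agent.Solvable.Glauberman.exists_conj_of_le_sup (T : Subgroup X) f.ker hTn
    hcop (Or.inl (by
      have := T.2.isNilpotent
      infer_instance)) B hBT hcard
  -- `y = n⁻¹ y0` normalises `T`
  have hyT : ∀ a ∈ (T : Subgroup X), (n⁻¹ * y0) * a * (n⁻¹ * y0)⁻¹ ∈ (T : Subgroup X) := by
    intro a ha
    have h1 : y0 * a * y0⁻¹ ∈ B := ⟨a, ha, rfl⟩
    rw [← hnT, mem_pointwise_smul_iff_inv_smul_mem] at h1
    have h2 : (n⁻¹ * y0) * a * (n⁻¹ * y0)⁻¹ = (MulAut.conj n)⁻¹ • (y0 * a * y0⁻¹) := by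
      simp [MulAut.smul_def, mul_assoc]
    rw [h2]; exact h1
  have hfy : f (n⁻¹ * y0) = z := by
    rw [map_mul, map_inv, (MonoidHom.mem_ker).mp hn, inv_one, one_mul, hy0]
  set y := n⁻¹ * y0 with hy
  -- pass to an element of order 7
  have h7 : 7 ∣ orderOf y := by
    rw [← hz, ← hfy]; exact orderOf_map_dvd f y
  obtain ⟨m, hm⟩ := h7
  have hm7 : ¬ 7 ∣ m := by
    rintro ⟨l, rfl⟩
    exact hsq y ⟨l, by rw [hm]; ring⟩
  have hm0 : m ≠ 0 := by rintro rfl; exact hm7 (dvd_zero _)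
  have hord : orderOf (y ^ m) = 7 := by
    rw [orderOf_pow_of_dvd hm0 ⟨7, by rw [hm]; ring⟩, hm, Nat.mul_div_cancel _ (Nat.pos_of_ne_zero hm0)]
  have hpowT : ∀ j : ℕ, ∀ a ∈ (T : Subgroup X), y ^ j * a * (y ^ j)⁻¹ ∈ (T : Subgroup X) := by
    intro j
    induction j with
    | zero => intro a ha; simpa using ha
    | succ k ih =>
      intro a ha
      have h1 := ih _ (hyT a ha)
      have h2 : y ^ (k + 1) * a * (y ^ (k + 1))⁻¹ = y ^ k * (y * a * y⁻¹) * (y ^ k)⁻¹ := by
        rw [pow_succ]; group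
      rw [h2]; exact h1
  have hfm : ∀ i : ℕ, 0 < i → i < 7 → f ((y ^ m) ^ i) ≠ 1 := by
    intro i hi hi7 h1
    rw [← pow_mul, map_pow, hfy, ← orderOf_dvd_iff_pow_eq_one, hz,
      (by norm_num : Nat.Prime 7).dvd_mul] at h1
    rcases h1 with h1 | h1
    · exact hm7 h1
    · have := Nat.le_of_dvd hi h1
      omega
  refine ⟨(T : Subgroup X), y ^ m, T.2, hord, ?_, hpowT m, ?_, ?_⟩
  · have := hfm 1 (by norm_num) (by norm_num)
    rwa [pow_one] at this
  · obtain ⟨⟨e, he⟩, he1⟩ := Subgroup.ne_bot_iff_exists_ne_one.mp hP1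
    rw [← hTP] at he
    obtain ⟨a, ha, hae⟩ := he
    refine ⟨a, ha, ?_⟩
    intro h
    apply he1
    apply Subtype.ext
    show e = 1
    rw [← hae]; exact h
  · intro i hi hi7 a ha hc
    -- images commute
    have h1 : Commute (f ((y ^ m) ^ i)) (f a) := by
      have := congrArg f (mul_inv_eq_iff_eq_mul.mp hc)
      rw [map_mul, map_mul] at this
      exact this
    have h2 : orderOf (f ((y ^ m) ^ i)) = 7 := by
      have : Fact (Nat.Prime 7) := ⟨by norm_num⟩
      apply orderOf_eq_prime _ (hfm i hi hi7)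
      have h7 : (y ^ m) ^ 7 = 1 := by
        have := pow_orderOf_eq_one (y ^ m)
        rwa [hord] at this
      rw [← map_pow, ← pow_mul, mul_comm i 7, pow_mul, h7, one_pow, map_one]
    obtain ⟨l, hl⟩ := IsPGroup.iff_orderOf.mp T.2 ⟨a, ha⟩
    rw [Subgroup.orderOf_mk] at hl
    have h3 : (7 : ℕ).Coprime (orderOf (f a)) := by
      refine Nat.Coprime.coprime_dvd_right (orderOf_map_dvd f a) ?_
      rw [hl]
      exact Nat.Coprime.pow_right _ (by norm_num)
    have h4 := JFacts.eq_one_of_comm (Or.inl rfl) h2 h1 h3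
    have h5 : a ∈ f.ker := h4
    have h6 : orderOf a ∣ Nat.card f.ker := Subgroup.orderOf_dvd_natCard _ h5
    rw [hl] at h6
    have h7 : (2 ^ l).Coprime (Nat.card f.ker) := Nat.Coprime.pow_left _ (Nat.coprime_two_left.mpr hodd)
    have h8 : 2 ^ l = 1 := Nat.eq_one_of_dvd_coprimes h7 dvd_rfl h6
    rw [h8] at hl
    exact orderOf_eq_one_iff.mp hl

/-- **Lemma J0**: if the norms of the elements of order 7 outside the kernel are trivial on `V` then the
centralizer of `V` covers `J₁`. -/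
theorem map_centralizer (hf : Function.Surjective f) (hodd : Odd (Nat.card f.ker))
    (hsq : ∀ x : X, ¬ 49 ∣ orderOf x) (hV : ∀ a ∈ V, ∀ b ∈ V, a * b = b * a) {r : ℕ}
    (hr : Odd r) (hexp : ∀ v ∈ V, v ^ r = 1)
    (hN : ∀ x : X, orderOf x = 7 → f x ≠ 1 → ∀ v ∈ V, (v * x) ^ 7 = 1) :
    (centralizer (V : Set X)).map f = ⊤ := by
  obtain ⟨T, x, hT, hx, hx1, hxT, ⟨a, haT, ha1⟩, hfree⟩ := exists_T0 f hf hodd hsq
  have h1 : ∀ v ∈ V, ∀ b ∈ T, Commute b v := by
    intro v hv b hb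
    have h2 := comm_pow V hV T (by norm_num : 0 < 7) hxT hfree (by rw [← hx]; exact pow_orderOf_eq_one x)
      (hN x hx hx1) hv b hb
    obtain ⟨k, hk⟩ := natCard_pow_two hT
    refine commute_of_pow h2 (hexp v hv) ?_
    rw [hk]
    exact Nat.Coprime.pow_left _ (Nat.coprime_two_left.mpr hr)
  have h2 : ((centralizer (V : Set X)).map f).Normal := Subgroup.Normal.map inferInstance f hf
  have := JFacts.simple
  rcases h2.eq_bot_or_eq_top with h3 | h3
  · exfalso
    apply ha1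
    have h4 : f a ∈ (centralizer (V : Set X)).map f := by
      apply Subgroup.mem_map_of_mem
      rw [mem_centralizer_iff]
      intro v hv
      exact (h1 v hv a haT).symm
    rw [h3, mem_bot] at h4
    exact h4
  · exact h3

end J

end Cfsg.Agent.H389.JSq
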