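import Cfsg.Agent.H389.Zero

/-!
# Exactly one component of `G/O(G)` isomorphic to `J₁` (helper389)
-/

set_option autoImplicit false

namespace Cfsg.Agent.H389.JSq

open Subgroup Cfsg
open Cfsg.Spor (J1)
open Cfsg.Agent.SignalizersComponents
open Cfsg.Agent.SignalizersComponents.Components
open Cfsg.Agent.Walter

universe u

/-! ### Normal subgroups isomorphic to `J₁` -/

theorem conj_injective : Function.Injective (MulAut.conj : J1 →* MulAut J1) := by
  have := JFacts.simple
  rw [injective_iff_map_eq_one]
  intro a ha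
  have h1 : a ∈ center J1 := by
    rw [mem_center_iff]
    intro g
    have := congrArg (fun φ : MulAut J1 => φ g) ha
    have h2 : a * g * a⁻¹ = g := this
    exact (mul_inv_eq_iff_eq_mul.mp h2).symm
  have hn : (center J1).Normal := inferInstance
  rcases hn.eq_bot_or_eq_top with h | h
  · rwa [h, mem_bot] at h1
  · exfalso
    obtain ⟨x, hx⟩ : Has J1 7 := (H413.JOneSpec.exists_orderOf_iff 7).mpr (by decide)
    obtain ⟨y, hy⟩ : Has J1 11 := (H413.JOneSpec.exists_orderOf_iff 11).mpr (by decide)
    have h2 : y ∈ center J1 := by rw [h]; exact mem_top y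
    have h3 : Commute x y := mem_center_iff.mp h2 x
    have h4 := JFacts.eq_one_of_comm (Or.inl rfl) hx h3 (by rw [hy]; norm_num)
    rw [h4, orderOf_one] at hy
    norm_num at hy

/-- **the projection onto a normal subgroup isomorphic to `J₁`** -/
theorem exists_hom {X : Type*} [Group X] (J : Subgroup X) [J.Normal] (e : J ≃* J1) :
    ∃ φ : X →* J1, (∀ j : J, φ j = e j) ∧ φ.ker = centralizer (J : Set X) := by
  have hbij : Function.Bijective (MulAut.conj : J1 →* MulAut J1) := by
    refine ⟨conj_injective, fun α => ?_⟩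
    obtain ⟨k, hk⟩ := Cfsg.Agent.OddHalf.D4.Spor.J1Out.inn α
    exact ⟨k, hk.symm⟩
  let E : J1 ≃* MulAut J1 := MulEquiv.ofBijective MulAut.conj hbij
  let φ : X →* J1 := E.symm.toMonoidHom.comp ((MulAut.congr e).toMonoidHom.comp (MulAut.conjNormal (H := J)))
  refine ⟨φ, ?_, ?_⟩
  · intro j
    show E.symm ((MulAut.congr e) (MulAut.conjNormal (H := J) (j : X))) = e j
    rw [MulEquiv.symm_apply_eq]
    ext1 y
    show e ((MulAut.conjNormal (H := J) (j : X)) (e.symm y)) = e j * y * (e j)⁻¹
    have h1 : (MulAut.conjNormal (H := J) (j : X)) (e.symm y) = j * e.symm y * j⁻¹ := by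
      apply Subtype.ext
      rw [MulAut.conjNormal_apply]
      rfl
    rw [h1, map_mul, map_mul, map_inv, MulEquiv.apply_symm_apply]
  · ext x
    rw [MonoidHom.mem_ker]
    have h1 : φ x = 1 ↔ MulAut.conjNormal (H := J) x = 1 := by
      show E.symm ((MulAut.congr e) (MulAut.conjNormal (H := J) x)) = 1 ↔ _
      rw [MulEquiv.symm_apply_eq, map_one, MulEquiv.map_eq_one_iff]
    rw [h1, mem_centralizer_iff]
    constructor
    · intro h j hj
      have h2 := congrArg (fun ψ : MulAut J => ((ψ ⟨j, hj⟩ : J) : X)) h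
      have h3 : x * j * x⁻¹ = j := by
        have := MulAut.conjNormal_apply (H := J) x ⟨j, hj⟩
        rw [← this]; exact h2
      exact (mul_inv_eq_iff_eq_mul.mp h3).symm
    · intro h
      ext j
      rw [MulAut.conjNormal_apply, MulAut.one_apply]
      exact mul_inv_eq_iff_eq_mul.mpr (h j j.2).symm

/-- the solvable version of `no_cent` -/
theorem no_cent_solvable {G : Type u} [Group G] [Finite G] (hcl : Cl G) {t : G} {d : ℕ}
    (ht : orderOf t = d) (hd : d ∈ rho) (M : Subgroup G) (hM : M ≤ centralizer ({t} : Set G))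
    (hMs : Group.IsSolvable M) (h : ∀ q ∈ rho, q ≠ d → q ∣ Nat.card M) : False := by
  have hle : ∀ {a b : ℕ}, a ∈ rho → b ∈ rho → a ≠ d → b ≠ d → a ≠ b →
      Has M (a * b) → False := by
    intro a b ha hb had hbd hab hh
    refine hcl.no_mul_cent ht hM hh ?_ ?_
    · exact Nat.Coprime.mul_right (rho_coprime hd ha had.symm) (rho_coprime hd hb hbd.symm)
    · rw [← mul_assoc]
      exact rho_triple d hd a ha b hb had.symm hbd.symm hab
  have key : ∀ {a b c : ℕ}, a ∈ rho → b ∈ rho → c ∈ rho → a ≠ b → a ≠ c → b ≠ c → a ≠ d → b ≠ d →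
      c ≠ d → False := by
    intro a b c ha hb hc hab hac hbc had hbd hcd
    rcases tri_of_solvable hMs (rho_prime ha) (rho_prime hb) (rho_prime hc) hab hac hbc (h a ha had)
      (h b hb hbd) (h c hc hcd) with h1 | h1 | h1
    · exact hle ha hb had hbd hab h1
    · exact hle ha hc had hcd hac h1
    · exact hle hb hc hbd hcd hbc h1
  simp only [rho, Finset.mem_insert, Finset.mem_singleton] at hd
  rcases hd with rfl | rfl | rfl | rfl
  · exact key (a := 7) (b := 11) (c := 19) (by decide) (by decide) (by decide) (by norm_num)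
      (by norm_num) (by norm_num) (by norm_num) (by norm_num) (by norm_num)
  · exact key (a := 2) (b := 11) (c := 19) (by decide) (by decide) (by decide) (by norm_num)
      (by norm_num) (by norm_num) (by norm_num) (by norm_num) (by norm_num)
  · exact key (a := 2) (b := 7) (c := 19) (by decide) (by decide) (by decide) (by norm_num)
      (by norm_num) (by norm_num) (by norm_num) (by norm_num) (by norm_num)
  · exact key (a := 2) (b := 7) (c := 11) (by decide) (by decide) (by decide) (by norm_num)
      (by norm_num) (by norm_num) (by norm_num) (by norm_num) (by norm_num)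

namespace Ctx

variable {X : Type u} [Group X] [Finite X] (C : Ctx X)
include C

/-- normal subgroups -/
theorem of_normal (N : Subgroup X) (hN : N.Normal) : Ctx N := by
  refine ⟨C.cl.subgroup N, ?_⟩
  have h := Lib.Cores.map_subtype_pPrimeCore 2 hN
  rw [C.core, inf_bot_eq, Subgroup.map_eq_bot_iff_of_injective _ N.subtype_injective] at h
  exact h

/-- `C(J)` has no `J₁`-section if `J` is the only component isomorphic to `J₁` -/
theorem nJ_centralizer (h3 : Three.{u}) {J : Subgroup X} (hJ : IsComponent J) (e : J ≃* J1)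
    (hJn : J.Normal) (huniq : ∀ K : Subgroup X, IsComponent K → Nonempty (K ≃* J1) → K = J) :
    NJ (centralizer (J : Set X)) := by
  have hCn : (centralizer (J : Set X)).Normal := inferInstance
  refine (C.of_normal _ hCn).nJ ?_
  intro K hK
  have C' := C.of_normal _ hCn
  rcases h3 K (C'.simple hK) (Ctx.not_comm hK) (C'.cl.subgroup K) with h | h | h
  · exact Or.inl h
  · exact Or.inr h
  · exfalso
    obtain ⟨e'⟩ := h
    have h1 : IsComponent (K.map (centralizer (J : Set X)).subtype) :=
      isComponent_map_subtype hCn.isSubnormal hK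
    have h2 := huniq _ h1 ⟨(K.equivMapOfInjective _ (subtype_injective _)).symm.trans e'⟩
    have h4 : J ≤ centralizer (J : Set X) := by
      conv_lhs => rw [← h2]
      exact map_subtype_le K
    have h5 : J = ⊥ := by
      rw [← C.inf_centralizer hJ]
      exact (inf_eq_left.mpr h4).symm
    have h6 : Nat.card J = 1 := by rw [h5, Subgroup.card_bot]
    rw [Nat.card_congr e.toEquiv, H413.JOneLocal.card_J1] at h6
    norm_num at h6

/-- a group in the class with trivial core and order not divisible by 4 has order at most 2 -/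
theorem card_dvd_two (h3 : Three.{u}) (h4 : ¬ 4 ∣ Nat.card X) : Nat.card X ∣ 2 := by
  have h2f : Fact (Nat.Prime 2) := ⟨Nat.prime_two⟩
  have hno : ∀ K : Subgroup X, ¬ IsComponent K := by
    intro K hK
    apply h4
    refine Dvd.dvd.trans ?_ K.card_subgroup_dvd_card
    rcases h3 K (C.simple hK) (Ctx.not_comm hK) (C.cl.subgroup K) with h | h | h
    · rw [h]; norm_num
    · rw [h]; norm_num
    · obtain ⟨e⟩ := h
      rw [Nat.card_congr e.toEquiv, H413.JOneLocal.card_J1]; norm_num
  have hl : layer X = ⊥ := by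
    rw [layer, eq_bot_iff]
    exact sSup_le (fun K hK => (hno K hK).elim)
  have hF := AbStruct.genFitting_eq C.core
  rw [hl, sup_bot_eq] at hF
  have hn : (pCore 2 X).Normal := Lib.Cores.pCore_normal 2
  obtain ⟨k, hk⟩ := natCard_pow_two (Lib.Cores.pCore_isPGroup (G := X) 2)
  have hk2 : k < 2 := by
    by_contra hcon
    apply h4
    have h5 : 2 ^ 2 ∣ Nat.card (pCore 2 X) := by rw [hk]; exact pow_dvd_pow 2 (not_lt.mp hcon)
    exact h5.trans (pCore 2 X).card_subgroup_dvd_card
  have hc2 : Nat.card (pCore 2 X) ∣ 2 := by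
    rw [hk]
    calc 2 ^ k ∣ 2 ^ 1 := pow_dvd_pow 2 (by omega)
      _ = 2 := by norm_num
  -- the core is central
  have hcen : (⊤ : Subgroup X) ≤ centralizer (pCore 2 X : Set X) := by
    intro g _
    rw [mem_centralizer_iff]
    intro z hz
    by_cases hz1 : z = 1
    · rw [hz1, one_mul, mul_one]
    · have h5 : g * z * g⁻¹ ∈ pCore 2 X := hn.conj_mem z hz g
      by_contra hne
      have h6 : g * z * g⁻¹ ≠ z := by
        intro h
        exact hne (mul_inv_eq_iff_eq_mul.mp h).symm
      have h7 : g * z * g⁻¹ ≠ 1 := by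
        intro h
        apply hz1
        have : z = g⁻¹ * (g * z * g⁻¹) * g := by group
        rw [this, h]; group
      have h8 : Nat.card (pCore 2 X) ≤ 2 := Nat.le_of_dvd (by norm_num) hc2
      have h9 : 2 < Nat.card (pCore 2 X) := by
        classical
        have := Fintype.ofFinite (pCore 2 X)
        rw [Nat.card_eq_fintype_card, Fintype.two_lt_card_iff]
        exact ⟨1, ⟨z, hz⟩, ⟨_, h5⟩, fun h => hz1 (congrArg Subtype.val h).symm,
          fun h => h7 (congrArg Subtype.val h).symm, fun h => h6 (congrArg Subtype.val h).symm⟩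
      omega
  have h5 : (⊤ : Subgroup X) ≤ pCore 2 X := by
    rw [← hF] at hcen
    have h6 := hcen.trans (TwoFusion.FStarControl.centralizer_genFitting_le_fitting (H := X))
    rwa [BalanceAux.fitting_eq_pCore 2 C.core] at h6
  have h6 := card_dvd_of_le h5
  rw [Subgroup.card_top] at h6
  exact h6.trans hc2

end Ctx

theorem num_J1 : ∀ p ∈ pi, ¬ p ^ 2 ∣ 2 * 175560 ∧ ¬ p ∣ 2 ∧ ¬ p ^ 2 ∣ 175560 := by decide +kernel

theorem spec_pq : ∀ p ∈ pi, ∀ q ∈ pi, p ≠ q → p * q ∉ ({1, 2, 3, 5, 6, 7, 10, 11, 15, 19} : Finset ℕ) := by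
  decide

theorem exists_third : ∀ a ∈ rho, ∀ b ∈ rho, ∃ s ∈ pi, s ≠ a ∧ s ≠ b := by decide

section one

variable {G : Type u} [Group G] [Finite G]

/-- **exactly one component isomorphic to `J₁`** -/
theorem false_of_one (hodd : OddSolv.{u}) (h3 : Three.{u}) (hG : Full G)
    {J : Subgroup (G ⧸ pPrimeCore 2 G)} (hJ : IsComponent J) (e : J ≃* J1)
    (huniq : ∀ K : Subgroup (G ⧸ pPrimeCore 2 G), IsComponent K → Nonempty (K ≃* J1) → K = J) :
    False := by
  have C := hG.cl.ctx
  set f := QuotientGroup.mk' (pPrimeCore 2 G) with hf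
  have hfs : Function.Surjective f := QuotientGroup.mk'_surjective _
  have hker : f.ker = pPrimeCore 2 G := QuotientGroup.ker_mk' _
  have hkodd : Odd (Nat.card f.ker) := by rw [hker]; exact core_odd
  have hOs : Group.IsSolvable (pPrimeCore 2 G) := hodd _ core_odd
  have hcardJ : Nat.card J = 175560 := by
    rw [Nat.card_congr e.toEquiv, H413.JOneLocal.card_J1]
  -- `J` is normal
  have hJn : J.Normal := by
    have hmem : ∀ g, g ∈ normalizer (J : Set (G ⧸ pPrimeCore 2 G)) := by
      intro g
      apply Ctx.mem_normalizer_of_map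
      exact huniq _ (isComponent_conj g hJ)
        ⟨(J.equivMapOfInjective _ (MulAut.conj g).injective).symm.trans e⟩
    rw [← normalizer_eq_top_iff]
    exact eq_top_iff.mpr (fun g _ => hmem g)
  obtain ⟨φ, hφJ, hφk⟩ := exists_hom J e
  have hφs : Function.Surjective φ := by
    intro a
    exact ⟨(e.symm a : J), by rw [hφJ, MulEquiv.apply_symm_apply]⟩
  set D : Subgroup (G ⧸ pPrimeCore 2 G) := centralizer (J : Set (G ⧸ pPrimeCore 2 G)) with hD
  have hDn : D.Normal := by rw [hD]; infer_instance
  have CD : Ctx D := C.of_normal D hDn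
  have hNJD : NJ D := C.nJ_centralizer h3 hJ e hJn huniq
  -- elements of `J` of a given order
  have hJel : ∀ s ∈ pi, ∃ j ∈ J, orderOf j = s := by
    intro s hs
    refine H381.Tools.exists_mem_of_dvd (pi_prime hs) ?_
    rw [hcardJ]
    exact (by decide : ∀ s ∈ pi, s ∣ 175560) s hs
  have hcomap : ∀ H : Subgroup (G ⧸ pPrimeCore 2 G), pPrimeCore 2 G ≤ H.comap f ∧
      Nat.card H ∣ Nat.card (H.comap f) := by
    intro H
    refine ⟨?_, ?_⟩
    · intro x hx
      rw [← hker, MonoidHom.mem_ker] at hx
      rw [mem_comap, hx]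
      exact one_mem _
    · refine Subgroup.card_dvd_of_surjective (f.subgroupComap H) ?_
      rintro ⟨y, hy⟩
      obtain ⟨x, rfl⟩ := hfs y
      exact ⟨⟨x, hy⟩, rfl⟩
  by_cases h4 : 4 ∣ Nat.card D
  · -- no prime of `pi` divides the order of the core
    have hpK : ∀ p ∈ pi, ¬ p ∣ Nat.card (pPrimeCore 2 G) := by
      intro p hp hpK
      obtain ⟨t, ht, hto, v, hv, hvo, htv⟩ := cpk hG.cl (pPrimeCore 2 G) core_odd (pi_prime hp) hpK
        (D.comap f) (hcomap D).1 (h4.trans (hcomap D).2)
      have htD : f t ∈ D := ht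
      set X0 : Subgroup G := centralizer {t} ⊓ J.comap f with hX0
      let g : X0 →* J1 := (φ.comp f).comp X0.subtype
      have hgs : Function.Surjective g := by
        intro a
        obtain ⟨y, hy⟩ := hfs (e.symm a : J)
        have hc : Commute (f t) (f y) := by
          rw [hy]
          exact (mem_centralizer_iff.mp htD _ (e.symm a).2).symm
        obtain ⟨n, hn, hnc⟩ := exists_comm_lift f (a := t) (g := y)
          (by rw [hto]; exact Nat.coprime_two_left.mpr hkodd) hc
        have h1 : f (n * y) = (e.symm a : J) := by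
          rw [map_mul, (MonoidHom.mem_ker).mp hn, one_mul, hy]
        refine ⟨⟨n * y, ⟨H381.Tools.mem_cent_iff.mpr hnc, ?_⟩⟩, ?_⟩
        · show f (n * y) ∈ J
          rw [h1]; exact SetLike.coe_mem _
        · show φ (f (n * y)) = a
          rw [h1, hφJ, MulEquiv.apply_symm_apply]
      have hgk : ∀ x : X0, x ∈ g.ker → (x : G) ∈ pPrimeCore 2 G := by
        intro x hx
        have h1 : f x ∈ D := by rw [← hφk]; exact hx
        have h2 : f x ∈ J ⊓ centralizer (J : Set (G ⧸ pPrimeCore 2 G)) := ⟨x.2.2, h1⟩
        rw [C.inf_centralizer hJ, mem_bot] at h2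
        rw [← hker]; exact h2
      have hgle : g.ker.map X0.subtype ≤ pPrimeCore 2 G := by
        rintro _ ⟨x, hx, rfl⟩
        exact hgk x hx
      have hgc : Nat.card g.ker = Nat.card (g.ker.map X0.subtype) :=
        Nat.card_congr (g.ker.equivMapOfInjective _ X0.subtype_injective).toEquiv
      have hgodd : Odd (Nat.card g.ker) := by
        rw [hgc]; exact odd_of_dvd core_odd (card_dvd_of_le hgle)
      have hpg : p ∣ Nat.card g.ker := by
        have hvX : v ∈ X0 := by
          refine ⟨H381.Tools.mem_cent_iff.mpr htv, ?_⟩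
          show f v ∈ J
          have : f v = 1 := by rw [← MonoidHom.mem_ker, hker]; exact hv
          rw [this]; exact one_mem _
        have h1 : (⟨v, hvX⟩ : X0) ∈ g.ker := by
          show φ (f v) = 1
          have : f v = 1 := by rw [← MonoidHom.mem_ker, hker]; exact hv
          rw [this, map_one]
        rw [← hvo, ← Subgroup.orderOf_mk v hvX]
        exact Subgroup.orderOf_dvd_natCard _ h1
      obtain ⟨q, hq, hqp, hhas⟩ := lemJ (hG.cl.subgroup X0) g hgs hgodd (hodd _ hgodd) hp hpg
      have h2p : (2 : ℕ) ≠ p := by rintro rfl; revert hp; decide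
      have h2q : (2 : ℕ) ≠ q := by rintro rfl; revert hq; decide
      refine hG.cl.no_mul_cent hto (inf_le_left : X0 ≤ _) hhas ?_ ?_
      · exact Nat.Coprime.mul_right (rho_coprime (by decide) (pi_le hp) h2p)
          (rho_coprime (by decide) (pi_le hq) h2q)
      · rw [← mul_assoc]
        exact rho_triple 2 (by decide) p (pi_le hp) q (pi_le hq) h2p h2q hqp.symm
    -- two primes divide `|D|`
    have hpD : ∀ p ∈ pi, ∀ q ∈ pi, p ≠ q → p ∣ Nat.card D ∨ q ∣ Nat.card D := by
      intro p hp q hq hpq
      by_contra hcon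
      push Not at hcon
      obtain ⟨g, hg⟩ := hG.has _ (om_pair p (pi_le hp) q (pi_le hq) hpq)
      have h1 : (orderOf g).Coprime (Nat.card f.ker) := by
        rw [hg, hker]
        exact Nat.Coprime.mul_left ((Nat.Prime.coprime_iff_not_dvd (pi_prime hp)).mpr (hpK p hp))
          ((Nat.Prime.coprime_iff_not_dvd (pi_prime hq)).mpr (hpK q hq))
      have h2 := orderOf_map_eq f h1
      have h5 : (orderOf (f g)).Coprime (Nat.card φ.ker) := by
        rw [h2, hg, hφk]
        exact Nat.Coprime.mul_left ((Nat.Prime.coprime_iff_not_dvd (pi_prime hp)).mpr hcon.1)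
          ((Nat.Prime.coprime_iff_not_dvd (pi_prime hq)).mpr hcon.2)
      have h6 := orderOf_map_eq φ h5
      rw [h2, hg] at h6
      exact spec_pq p hp q hq hpq (by rw [← h6]; exact H413.JOneSpec.orderOf_mem_J1 _)
    obtain ⟨p, hp, q, hq, hpq, hpD1, hqD1⟩ : ∃ p ∈ pi, ∃ q ∈ pi, p ≠ q ∧ p ∣ Nat.card D ∧
        q ∣ Nat.card D := by
      have e1 := hpD 7 (by decide) 11 (by decide) (by norm_num)
      have e2 := hpD 7 (by decide) 19 (by decide) (by norm_num)
      have e3 := hpD 11 (by decide) 19 (by decide) (by norm_num)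
      by_cases h7 : 7 ∣ Nat.card D
      · rcases e3 with h | h
        · exact ⟨7, by decide, 11, by decide, by norm_num, h7, h⟩
        · exact ⟨7, by decide, 19, by decide, by norm_num, h7, h⟩
      · exact ⟨11, by decide, 19, by decide, by norm_num, e1.resolve_left h7, e2.resolve_left h7⟩
    have h2p : (2 : ℕ) ≠ p := by rintro rfl; revert hp; decide
    have h2q : (2 : ℕ) ≠ q := by rintro rfl; revert hq; decide
    have hfin : ∀ a ∈ rho, ∀ b ∈ rho, a ≠ b → Has D (a * b) → False := by
      intro a ha b hb hab hh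
      obtain ⟨s, hs, hsa, hsb⟩ := exists_third a ha b hb
      obtain ⟨j, hj, hjs⟩ := hJel s hs
      have h1 : D ≤ centralizer ({j} : Set (G ⧸ pPrimeCore 2 G)) := by
        intro d hd
        rw [H381.Tools.mem_cent_iff]
        exact mem_centralizer_iff.mp hd j hj
      refine C.cl.no_mul_cent hjs h1 hh ?_ ?_
      · exact Nat.Coprime.mul_right (rho_coprime (pi_le hs) ha hsa) (rho_coprime (pi_le hs) hb hsb)
      · rw [← mul_assoc]
        exact rho_triple s (pi_le hs) a ha b hb hsa hsb hab
    rcases tri_two hodd h3 CD.cl hNJD hp hq hpq ((by norm_num : 2 ∣ 4).trans h4) hpD1 hqD1 with h | h | h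
    · exact hfin 2 (by decide) p (pi_le hp) h2p h
    · exact hfin 2 (by decide) q (pi_le hq) h2q h
    · exact hfin p (pi_le hp) q (pi_le hq) hpq h
  · -- `|D| ≤ 2`
    have hD2 : Nat.card D ∣ 2 := CD.card_dvd_two h3 h4
    have hcG : Nat.card G = Nat.card D * 175560 * Nat.card (pPrimeCore 2 G) := by
      have h1 := Subgroup.card_eq_card_quotient_mul_card_subgroup (pPrimeCore 2 G)
      have h2 := card_ker_mul φ hφs
      rw [hφk, H413.JOneLocal.card_J1] at h2
      rw [h1, ← h2]
    -- every prime of `pi` divides the order of the core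
    have hpK : ∀ p ∈ pi, p ∣ Nat.card (pPrimeCore 2 G) := by
      intro p hp
      by_contra hpK
      have hpp := pi_prime hp
      obtain ⟨n1, n2, n3⟩ := num_J1 p hp
      have hcop : (p ^ 2).Coprime (Nat.card (pPrimeCore 2 G)) :=
        Nat.Coprime.pow_left 2 ((Nat.Prime.coprime_iff_not_dvd hpp).mpr hpK)
      have hsq : ¬ p ^ 2 ∣ Nat.card G := by
        intro h
        rw [hcG] at h
        have h1 := hcop.dvd_of_dvd_mul_right h
        exact n1 (h1.trans (mul_dvd_mul_right hD2 _))
      have hpG : p ∣ Nat.card G := by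
        rw [hcG]
        refine Dvd.dvd.mul_right (Dvd.dvd.mul_left ?_ _) _
        exact (by decide : ∀ s ∈ pi, s ∣ 175560) p hp
      obtain ⟨x, hx⟩ := Has.of_prime_dvd hpp hpG
      -- the composite homomorphism
      set ψ : G →* J1 := φ.comp f with hψ
      have hψs : Function.Surjective ψ := hφs.comp hfs
      have hψk : Nat.card ψ.ker = Nat.card D * Nat.card (pPrimeCore 2 G) := by
        have h1 := card_ker_mul ψ hψs
        rw [H413.JOneLocal.card_J1, hcG] at h1
        apply Nat.eq_of_mul_eq_mul_right (by norm_num : 0 < 175560)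
        rw [h1]; ring
      have hpψ : p.Coprime (Nat.card ψ.ker) := by
        rw [hψk]
        refine Nat.Coprime.mul_right ?_ ((Nat.Prime.coprime_iff_not_dvd hpp).mpr hpK)
        exact (Nat.Prime.coprime_iff_not_dvd hpp).mpr (fun h => n2 (h.trans hD2))
      have hψx : orderOf (ψ x) = p := by
        rw [orderOf_map_eq ψ (by rw [hx]; exact hpψ), hx]
      -- the kernel is solvable
      have hψks : Group.IsSolvable ψ.ker := by
        have h1 : ∀ y : ψ.ker, f y ∈ D := by
          intro y
          rw [← hφk]; exact y.2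
        let k : ψ.ker →* D := (f.comp ψ.ker.subtype).codRestrict D h1
        have hDs : Group.IsSolvable D := by
          have h2 : IsPGroup 2 D := by
            rcases (Nat.dvd_prime Nat.prime_two).mp hD2 with h | h
            · exact IsPGroup.of_card (n := 0) (by rw [h, pow_zero])
            · exact IsPGroup.of_card (n := 1) (by rw [h, pow_one])
          have h2f : Fact (Nat.Prime 2) := ⟨Nat.prime_two⟩
          have := h2.isNilpotent
          infer_instance
        have hle : pPrimeCore 2 G ≤ ψ.ker := by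
          intro y hy
          rw [← hker, MonoidHom.mem_ker] at hy
          show φ (f y) = 1
          rw [hy, map_one]
        refine Group.isSolvable_of_ker_le_range (Subgroup.inclusion hle) k ?_
        intro y hy
        have h2 : f y = 1 := congrArg Subtype.val (show k y = 1 from hy)
        refine ⟨⟨y, ?_⟩, rfl⟩
        rw [← hker]; exact h2
      have hMs : Group.IsSolvable (centralizer ({x} : Set G)) := by
        have h1 : ∀ y : centralizer ({x} : Set G), ψ y ∈ centralizer ({ψ x} : Set J1) := by
          intro y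
          rw [H381.Tools.mem_cent_iff]
          exact (H381.Tools.mem_cent_iff.mp y.2).map ψ
        let k : centralizer ({x} : Set G) →* centralizer ({ψ x} : Set J1) :=
          (ψ.comp (centralizer ({x} : Set G)).subtype).codRestrict _ h1
        have hs1 : Group.IsSolvable (centralizer ({ψ x} : Set J1)) := by
          have hp3 : p = 7 ∨ p = 11 ∨ p = 19 := by revert hp; simp [pi]
          have h2 := JFacts.isPGroup_cent hp3 hψx
          have hpf : Fact p.Prime := ⟨hpp⟩
          have := h2.isNilpotent
          infer_instance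
        have hs2 : Group.IsSolvable (ψ.ker.subgroupOf (centralizer ({x} : Set G))) := by
          let i : ψ.ker.subgroupOf (centralizer ({x} : Set G)) →* ψ.ker :=
            ((centralizer ({x} : Set G)).subtype.comp
              (ψ.ker.subgroupOf (centralizer ({x} : Set G))).subtype).codRestrict ψ.ker
              (fun y => mem_subgroupOf.mp y.2)
          refine Group.isSolvable_of_isSolvable_injective (f := i) ?_
          intro a b hab
          exact Subtype.ext (Subtype.ext (congrArg (fun z : ψ.ker => (z : G)) hab))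
        refine Group.isSolvable_of_ker_le_range
          (ψ.ker.subgroupOf (centralizer ({x} : Set G))).subtype k ?_
        intro y hy
        rw [range_subtype, mem_subgroupOf]
        exact congrArg Subtype.val (show k y = 1 from hy)
      refine no_cent_solvable hG.cl hx (pi_le hp) _ le_rfl hMs ?_
      intro q hq hqp
      exact dvd_cent_of_has hpp (rho_prime hq) hsq hx (hG.has _ (om_pair p (pi_le hp) q hq hqp.symm))
    -- involutions of `J`-type
    have key : ∀ p ∈ pi, ∃ e v : G, f e ∈ J ∧ orderOf e = 2 ∧ v ∈ pPrimeCore 2 G ∧ orderOf v = p ∧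
        Commute e v := by
      intro p hp
      obtain ⟨t, ht, hto, v, hv, hvo, htv⟩ := cpk hG.cl (pPrimeCore 2 G) core_odd (pi_prime hp)
        (hpK p hp) (J.comap f) (hcomap J).1 (by
          refine Dvd.dvd.trans ?_ (hcomap J).2
          rw [hcardJ]; norm_num)
      exact ⟨t, v, ht, hto, hv, hvo, htv⟩
    obtain ⟨t, -, htJ, ht, -, -, -⟩ := key 7 (by decide)
    have hMs : Group.IsSolvable (pPrimeCore 2 G ⊓ centralizer ({t} : Set G) : Subgroup G) :=
      hodd _ (odd_of_dvd core_odd (card_dvd_of_le inf_le_left))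
    refine no_cent_solvable hG.cl ht (by decide) _ inf_le_right hMs ?_
    intro q hq hq2
    have hqpi : q ∈ pi := by
      revert hq2; revert hq; revert q; decide
    obtain ⟨t', v, htJ', ht', hv, hvo, htv⟩ := key q hqpi
    have ho : ∀ x : G, orderOf x = 2 → ∀ hx : f x ∈ J, orderOf (e ⟨f x, hx⟩) = 2 := by
      intro x hx hxL
      rw [MulEquiv.orderOf_eq, Subgroup.orderOf_mk, orderOf_map_eq f, hx]
      rw [hx]; exact Nat.coprime_two_left.mpr hkodd
    obtain ⟨l, hl⟩ := JFacts.inv_conj (ho t ht htJ) (ho t' ht' htJ')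
    obtain ⟨g, hg⟩ := conj_lift f hfs hkodd ht' ht (l := ((e.symm l : J) : G ⧸ pPrimeCore 2 G)) (by
      have h1 : e.symm l * ⟨f t, htJ⟩ * (e.symm l)⁻¹ = ⟨f t', htJ'⟩ := by
        apply e.injective
        rw [map_mul, map_mul, map_inv, MulEquiv.apply_symm_apply]
        exact hl
      exact congrArg Subtype.val h1)
    have hn : (pPrimeCore 2 G).Normal := Lib.Cores.pPrimeCore_normal 2
    have h1 : orderOf (g⁻¹ * v * g) = q := by
      have := (MulAut.conj g⁻¹).orderOf_eq v
      rw [← hvo, ← this]
      congr 1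
      simp
    rw [← h1]
    apply Subgroup.orderOf_dvd_natCard
    refine ⟨?_, ?_⟩
    · have := hn.conj_mem v hv g⁻¹
      rwa [inv_inv] at this
    · apply H381.Tools.mem_cent_iff.mpr
      have ht2 : t = g⁻¹ * t' * g := by rw [← hg]; group
      show _ * _ = _ * _
      rw [ht2]
      calc g⁻¹ * t' * g * (g⁻¹ * v * g) = g⁻¹ * (t' * v) * g := by group
        _ = g⁻¹ * (v * t') * g := by rw [htv.eq]
        _ = g⁻¹ * v * g * (g⁻¹ * t' * g) := by group

end one

end Cfsg.Agent.H389.JSq
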