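import Cfsg.Prelude.Def_LieTwisted
import Cfsg.Prelude.Def_Spor_J1
import Cfsg.Agent.ClassicalGeometry.PSL2Basic
import Cfsg.Agent.S2475
import Cfsg.Agent.S1159
import Cfsg.Agent.H389.Om

/-!
# The simple groups whose element orders are element orders of `J₁ × J₁` (helper389)

They have order 60 or 660 or are isomorphic to `J₁`.
-/

set_option autoImplicit false

universe u

namespace Cfsg.Agent.H389.JSq

open Subgroup Cfsg

theorem num_even : ∀ n ∈ Finset.range 9, 2 ≤ n → 2 ^ n + 1 ∈ om → 2 ^ n - 1 ∈ om → n = 2 := by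
  decide +kernel

theorem num_odd : ∀ q ∈ Finset.range 571, (q % 8 = 3 ∨ q % 8 = 5) → 5 ≤ q → (q - 1) / 2 ∈ om →
    (q + 1) / 2 ∈ om → q = 5 ∨ q = 11 ∨ q = 13 ∨ q = 21 ∨ q = 29 ∨ q = 43 := by
  decide +kernel

theorem card_psl_odd {F : Type*} [Field F] [Fintype F]
    (h8 : Fintype.card F % 8 = 3 ∨ Fintype.card F % 8 = 5) (h5 : 5 ≤ Fintype.card F)
    (hcl : Cl (Matrix.ProjectiveSpecialLinearGroup (Fin 2) F)) :
    Nat.card (Matrix.ProjectiveSpecialLinearGroup (Fin 2) F) = 60 ∨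
      Nat.card (Matrix.ProjectiveSpecialLinearGroup (Fin 2) F) = 660 := by
  obtain ⟨p, hchar⟩ := CharP.exists F
  have hp : Fact p.Prime := ⟨CharP.char_is_prime F p⟩
  have hspec := S2475.result (F := F) p (by omega)
  have hgcd : Nat.gcd 2 (Fintype.card F - 1) = 2 :=
    Nat.gcd_eq_left (by omega)
  rw [hgcd] at hspec
  have hmem : ∀ m : ℕ, (m ∣ p ∨ m ∣ (Fintype.card F - 1) / 2 ∨ m ∣ (Fintype.card F + 1) / 2) →
      m ∈ om := by
    intro m hm
    have h1 : m ∈ Set.range (orderOf : Matrix.ProjectiveSpecialLinearGroup (Fin 2) F → ℕ) := by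
      rw [hspec]; exact hm
    obtain ⟨g, hg⟩ := h1
    rw [← hg]; exact hcl g
  have h1 := hmem _ (Or.inr (Or.inl dvd_rfl))
  have h2 := hmem _ (Or.inr (Or.inr dvd_rfl))
  have h3 := hmem p (Or.inl dvd_rfl)
  have h4 := om_le _ h2
  have hcard := ClassicalGeometry.PSL2Basic.card_PSL2_odd (F := F) (by
    rw [Nat.odd_iff]; omega)
  have hq := num_odd (Fintype.card F) (Finset.mem_range.mpr (by omega)) h8 h5 h1 h2
  obtain ⟨n, hprime, hn⟩ := FiniteField.card F p
  have hpq : p ∣ Fintype.card F := by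
    rw [hn]; exact dvd_pow_self p n.pos.ne'
  rcases hq with h | h | h | h | h | h
  · left
    rw [h] at hcard
    omega
  · right
    rw [h] at hcard
    omega
  · exfalso
    rw [h] at hpq
    rw [(Nat.prime_dvd_prime_iff_eq hprime (by norm_num)).mp hpq] at h3
    revert h3; decide +kernel
  · exfalso
    rw [h] at hn
    have h6 : p ∣ 3 * 7 := by rw [h] at hpq; exact hpq
    rcases (Nat.Prime.dvd_mul hprime).mp h6 with h7 | h7
    · rw [(Nat.prime_dvd_prime_iff_eq hprime (by norm_num)).mp h7] at hn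
      have h8 : (7 : ℕ) ∣ 3 ^ (n : ℕ) := by rw [← hn]; norm_num
      have := Nat.Prime.dvd_of_dvd_pow (by norm_num) h8
      omega
    · rw [(Nat.prime_dvd_prime_iff_eq hprime (by norm_num)).mp h7] at hn
      have h8 : (3 : ℕ) ∣ 7 ^ (n : ℕ) := by rw [← hn]; norm_num
      have := Nat.Prime.dvd_of_dvd_pow (by norm_num) h8
      omega
  · exfalso
    rw [h] at hpq
    rw [(Nat.prime_dvd_prime_iff_eq hprime (by norm_num)).mp hpq] at h3
    revert h3; decide +kernel
  · exfalso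
    rw [h] at hpq
    rw [(Nat.prime_dvd_prime_iff_eq hprime (by norm_num)).mp hpq] at h3
    revert h3; decide +kernel

theorem card_psl_even {F : Type*} [Field F] [Fintype F] {n : ℕ} (hn : 2 ≤ n)
    (hF : Fintype.card F = 2 ^ n) (hcl : Cl (Matrix.ProjectiveSpecialLinearGroup (Fin 2) F)) :
    Nat.card (Matrix.ProjectiveSpecialLinearGroup (Fin 2) F) = 60 := by
  obtain ⟨p, hchar⟩ := CharP.exists F
  have hp : Fact p.Prime := ⟨CharP.char_is_prime F p⟩
  have h4 : 4 ≤ Fintype.card F := by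
    rw [hF]
    calc 4 = 2 ^ 2 := by norm_num
      _ ≤ 2 ^ n := Nat.pow_le_pow_right (by norm_num) hn
  have heven : 2 ∣ Fintype.card F := by rw [hF]; exact dvd_pow_self 2 (by omega)
  have hspec := S2475.result (F := F) p h4
  have hgcd : Nat.gcd 2 (Fintype.card F - 1) = 1 := by
    rw [← Nat.Coprime, Nat.coprime_two_left, Nat.odd_iff]; omega
  rw [hgcd, Nat.div_one, Nat.div_one] at hspec
  have hmem : ∀ m : ℕ, (m ∣ p ∨ m ∣ (Fintype.card F - 1) ∨ m ∣ (Fintype.card F + 1)) →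
      m ∈ om := by
    intro m hm
    have h1 : m ∈ Set.range (orderOf : Matrix.ProjectiveSpecialLinearGroup (Fin 2) F → ℕ) := by
      rw [hspec]; exact hm
    obtain ⟨g, hg⟩ := h1
    rw [← hg]; exact hcl g
  have h1 := hmem _ (Or.inr (Or.inl dvd_rfl))
  have h2 := hmem _ (Or.inr (Or.inr dvd_rfl))
  rw [hF] at h1 h2
  have h5 := om_le _ h2
  have hn9 : n < 9 := by
    by_contra hcon
    have : 2 ^ 9 ≤ 2 ^ n := Nat.pow_le_pow_right (by norm_num) (by omega)
    omega
  have hn2 := num_even n (Finset.mem_range.mpr hn9) hn h2 h1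
  have hcard := ClassicalGeometry.PSL2Basic.card_PSL2_even (F := F) (by
    rw [even_iff_two_dvd]; exact heven)
  rw [hF, hn2] at hcard
  exact hcard

theorem not_ree {G : Type*} [Group G] (hcl : Cl G) : ¬ Cfsg.Lie.IsoRee G := by
  rintro ⟨K, i1, i2, m, hm, hK, ⟨e⟩⟩
  obtain ⟨g, hg⟩ := (S1159.result hm hK 9).mpr (Or.inr (Or.inl dvd_rfl))
  have h1 := hcl (e.symm g)
  rw [MulEquiv.orderOf_eq, hg] at h1
  revert h1; decide +kernel

/-- The statement used in the sequel: the simple groups of the class `Cl`. -/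
def Three : Prop :=
  ∀ (K : Type u) [Group K] [Finite K], IsSimpleGroup K → ¬ IsMulCommutative K → Cl K →
    Nat.card K = 60 ∨ Nat.card K = 660 ∨ Nonempty (K ≃* Cfsg.Spor.J1)

theorem three_of {K : Type*} [Group K] [Finite K] (hcl : Cl K)
    (h : (∃ (F : Type) (_ : Field F) (_ : Fintype F) (n : ℕ), 2 ≤ n ∧ Fintype.card F = 2 ^ n ∧
        Nonempty (K ≃* Matrix.ProjectiveSpecialLinearGroup (Fin 2) F)) ∨
      (∃ (F : Type) (_ : Field F) (_ : Fintype F),
        (Fintype.card F % 8 = 3 ∨ Fintype.card F % 8 = 5) ∧ 5 ≤ Fintype.card F ∧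
          Nonempty (K ≃* Matrix.ProjectiveSpecialLinearGroup (Fin 2) F)) ∨
      Cfsg.Lie.IsoRee K ∨ Cfsg.Spor.IsoJ1 K) :
    Nat.card K = 60 ∨ Nat.card K = 660 ∨ Nonempty (K ≃* Cfsg.Spor.J1) := by
  rcases h with ⟨F, i1, i2, n, hn, hF, ⟨e⟩⟩ | ⟨F, i1, i2, h8, h5, ⟨e⟩⟩ | h | h
  · left
    rw [Nat.card_congr e.toEquiv]
    exact card_psl_even hn hF (hcl.of_surjective e.toMonoidHom e.surjective)
  · rw [Nat.card_congr e.toEquiv]
    rcases card_psl_odd h8 h5 (hcl.of_surjective e.toMonoidHom e.surjective) with h | h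
    · exact Or.inl h
    · exact Or.inr (Or.inl h)
  · exact (not_ree hcl h).elim
  · exact Or.inr (Or.inr h)

end Cfsg.Agent.H389.JSq
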