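import Cfsg.Agent.H395.Coclique
import Cfsg.Agent.H389.Comp
import Cfsg.Agent.H389.JTwo
import Cfsg.Agent.H389.Three

/-!
# Three primes of `{2, 7, 11, 19}` in groups without `J₁`-sections (helper389)
-/

set_option autoImplicit false

namespace Cfsg.Agent.H389.JSq

open Subgroup Cfsg
open Cfsg.Spor (J1)
open Cfsg.Agent.SignalizersComponents
open Cfsg.Agent.SignalizersComponents.Components
open Cfsg.Agent.Walter

universe u

/-- all finite groups of odd order (in the universe `u`) are solvable -/
def OddSolv : Prop := ∀ (Y : Type u) [Group Y] [Finite Y], Odd (Nat.card Y) → Group.IsSolvable Y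

/-- no section is `J₁` -/
def NJ (X : Type*) [Group X] : Prop := ∀ (H : Subgroup X) (f : H →* J1), ¬ Function.Surjective f

section NJ

variable {X Y : Type*} [Group X] [Group Y]

theorem NJ.subgroup (h : NJ X) (M : Subgroup X) : NJ M := by
  intro H f hf
  let e := H.equivMapOfInjective M.subtype M.subtype_injective
  exact h (H.map M.subtype) (f.comp e.symm.toMonoidHom) (hf.comp e.symm.surjective)

theorem even_J1 : ¬ Odd (Nat.card J1) := by
  rw [H413.JOneLocal.card_J1]; decide

theorem odd_of_dvd {m n : ℕ} (hn : Odd n) (h : m ∣ n) : Odd m := by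
  rw [← Nat.not_even_iff_odd] at hn ⊢
  intro h1
  exact hn (even_iff_two_dvd.mpr ((even_iff_two_dvd.mp h1).trans h))

/-- homomorphisms onto `J₁` are trivial on normal subgroups of odd order -/
theorem map_eq_bot [Finite X] {f : X →* J1} (hf : Function.Surjective f) (N : Subgroup X) [N.Normal]
    (hN : Odd (Nat.card N)) : N ≤ f.ker := by
  have := JFacts.simple
  have h1 : (N.map f).Normal := Subgroup.Normal.map inferInstance f hf
  rcases h1.eq_bot_or_eq_top with h | h
  · rwa [Subgroup.map_eq_bot_iff] at h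
  · exfalso
    have h2 : Nat.card (N.map f) ∣ Nat.card N := Subgroup.card_map_dvd N f
    rw [h, Subgroup.card_top] at h2
    exact even_J1 (odd_of_dvd hN h2)

/-- extensions with odd kernel -/
theorem NJ.of_hom [Finite X] (φ : X →* Y) (hφ : Odd (Nat.card φ.ker)) (h : NJ Y) : NJ X := by
  intro H f hf
  have h1 : Function.Surjective (φ.subgroupMap H) := φ.subgroupMap_surjective H
  have h2 : (φ.subgroupMap H).ker = φ.ker.subgroupOf H := by
    ext x
    rw [MonoidHom.mem_ker, mem_subgroupOf, MonoidHom.mem_ker]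
    constructor
    · intro h; exact congrArg Subtype.val h
    · intro h; exact Subtype.ext h
  have h3 : Odd (Nat.card (φ.subgroupMap H).ker) := by
    rw [h2]
    refine odd_of_dvd hφ ?_
    rw [Nat.card_congr ((φ.ker.subgroupOf H).equivMapOfInjective H.subtype H.subtype_injective).toEquiv]
    exact card_dvd_of_le (by rw [subgroupOf_map_subtype]; exact inf_le_left)
  have h4 := map_eq_bot hf (φ.subgroupMap H).ker h3
  refine h (H.map φ) ((φ.subgroupMap H).liftOfSurjective h1 ⟨f, h4⟩) ?_
  intro y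
  obtain ⟨x, rfl⟩ := hf y
  refine ⟨φ.subgroupMap H x, ?_⟩
  have := MonoidHom.liftOfRightInverse_comp_apply (φ.subgroupMap H) _
    (Function.rightInverse_surjInv h1) ⟨f, h4⟩ x
  exact this

end NJ

section ctx

variable {X : Type u} [Group X] [Finite X]

namespace Ctx

variable (C : Ctx X)
include C

/-- **a component exists** -/
theorem exists_component (hodd : OddSolv.{u}) (hns : ¬ Group.IsSolvable X) :
    ∃ K : Subgroup X, IsComponent K := by
  have : Fact (Nat.Prime 2) := ⟨Nat.prime_two⟩
  obtain ⟨S⟩ : Nonempty (Sylow 2 X) := inferInstance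
  by_contra hno
  have hl : layer X = ⊥ := by
    rw [layer, eq_bot_iff]
    exact sSup_le (fun K hK => (hno ⟨K, hK⟩).elim)
  have h1 := AbStruct.genFitting_eq C.core
  rw [hl, sup_bot_eq] at h1
  have h2 := AbStruct.odd_index C.core (C.sylow_comm S)
  rw [h1] at h2
  have hn : (pCore 2 X).Normal := Lib.Cores.pCore_normal 2
  have h3 : Group.IsSolvable (pCore 2 X) := by
    have := (Lib.Cores.pCore_isPGroup (G := X) 2).isNilpotent
    infer_instance
  have h4 : Group.IsSolvable (X ⧸ pCore 2 X) := hodd _ h2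
  exact hns (Group.isSolvable_of_ker_le_range (pCore 2 X).subtype (QuotientGroup.mk' (pCore 2 X)) (by simp))

omit C in
theorem dvd_iSup (T : Finset {K : Subgroup X // IsComponent K}) {q : ℕ} (hq : q.Prime)
    (h : q ∣ Nat.card (⨆ K ∈ T, K.1 : Subgroup X)) : ∃ K ∈ T, q ∣ Nat.card K.1 := by
  classical
  induction T using Finset.induction_on with
  | empty =>
    exfalso
    have h1 : (⨆ K ∈ (∅ : Finset {K : Subgroup X // IsComponent K}), K.1 : Subgroup X) = ⊥ := by simp
    rw [h1, Subgroup.card_bot] at h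
    exact hq.one_lt.ne' (Nat.dvd_one.mp h)
  | insert K T hKT ih =>
    rw [Finset.iSup_insert] at h
    have h1 : (⨆ L ∈ T, L.1 : Subgroup X) ≤ centralizer (K.1 : Set X) := by
      refine iSup₂_le fun L hL => comm_of_ne L.2 K.2 ?_
      intro h
      exact hKT ((Subtype.ext h : L = K) ▸ hL)
    have h2 := CoprimeBasic.card_sup_dvd (h1.trans (centralizer_le_normalizer _))
    rcases (Nat.Prime.dvd_mul hq).mp (h.trans h2) with h3 | h3
    · exact ⟨K, Finset.mem_insert_self K T, h3⟩
    · obtain ⟨L, hL, h4⟩ := ih h3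
      exact ⟨L, Finset.mem_insert_of_mem hL, h4⟩

/-- the odd primes dividing `|F*(X)|` -/
theorem dvd_genFitting {q : ℕ} (hq : q.Prime) (hq2 : q ≠ 2)
    (h : q ∣ Nat.card (generalizedFittingSubgroup X)) : ∃ K : Subgroup X, IsComponent K ∧ q ∣ Nat.card K := by
  have h2f : Fact (Nat.Prime 2) := ⟨Nat.prime_two⟩
  have hn : (pCore 2 X).Normal := Lib.Cores.pCore_normal 2
  rw [AbStruct.genFitting_eq C.core] at h
  have h1 := CoprimeBasic.card_sup_dvd (X := pCore 2 X) (Y := layer X) (by
    rw [normalizer_eq_top_iff.2 hn]; exact le_top)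
  rcases (Nat.Prime.dvd_mul hq).mp (h.trans h1) with h2 | h2
  · exact (H381.Tools.not_dvd_card Nat.prime_two hq hq2 (Lib.Cores.pCore_isPGroup (G := X) 2) h2).elim
  · have := Fintype.ofFinite {K : Subgroup X // IsComponent K}
    have h3 : layer X = ⨆ K ∈ (Finset.univ : Finset {K : Subgroup X // IsComponent K}), K.1 := by
      rw [layer, sSup_eq_iSup']
      simp only [Finset.mem_univ, iSup_pos]
      rfl
    rw [h3] at h2
    obtain ⟨K, -, hK⟩ := dvd_iSup Finset.univ hq h2
    exact ⟨K.1, K.2, hK⟩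

/-- **no `J₁`-component: no `J₁`-section** -/
theorem nJ (h : ∀ K : Subgroup X, IsComponent K → Nat.card K = 60 ∨ Nat.card K = 660) : NJ X := by
  intro H f hf
  have h2f : Fact (Nat.Prime 2) := ⟨Nat.prime_two⟩
  obtain ⟨S⟩ : Nonempty (Sylow 2 X) := inferInstance
  have hFn : (generalizedFittingSubgroup X).Normal := by
    rw [AbStruct.genFitting_eq C.core]
    have hn : (pCore 2 X).Normal := Lib.Cores.pCore_normal 2
    have hn2 : (layer X).Normal := LayerBasic.layer_normal X
    infer_instance
  have := JFacts.simple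
  have h1 : (((generalizedFittingSubgroup X).subgroupOf H).map f).Normal :=
    Subgroup.Normal.map inferInstance f hf
  rcases h1.eq_bot_or_eq_top with h2 | h2
  · rw [Subgroup.map_eq_bot_iff] at h2
    have h3 : Nat.card J1 ∣ ((generalizedFittingSubgroup X).subgroupOf H).index := by
      have h4 : f.ker.index = Nat.card J1 := by
        rw [index_ker, MonoidHom.range_eq_top.mpr hf, Subgroup.card_top]
      rw [← h4]
      exact index_dvd_of_le h2
    have h5 : ((generalizedFittingSubgroup X).subgroupOf H).index ∣ (generalizedFittingSubgroup X).index :=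
      Subgroup.relIndex_dvd_index_of_normal (generalizedFittingSubgroup X) H
    exact even_J1 (odd_of_dvd (AbStruct.odd_index C.core (C.sylow_comm S)) (h3.trans h5))
  · have h3 : Nat.card J1 ∣ Nat.card (generalizedFittingSubgroup X) := by
      have h4 := Subgroup.card_map_dvd ((generalizedFittingSubgroup X).subgroupOf H) f
      rw [h2, Subgroup.card_top] at h4
      refine h4.trans ?_
      rw [Nat.card_congr (((generalizedFittingSubgroup X).subgroupOf H).equivMapOfInjective H.subtype
        H.subtype_injective).toEquiv]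
      exact card_dvd_of_le (by rw [subgroupOf_map_subtype]; exact inf_le_left)
    rw [H413.JOneLocal.card_J1] at h3
    obtain ⟨K, hK, h7⟩ := C.dvd_genFitting (q := 7) (by norm_num) (by norm_num)
      ((by norm_num : 7 ∣ 175560).trans h3)
    rcases h K hK with h4 | h4 <;> rw [h4] at h7 <;> revert h7 <;> decide

end Ctx

/-- the components of a group without `J₁`-section -/
theorem comp_card (h3 : Three.{u}) (C : Ctx X) (hNJ : NJ X) {K : Subgroup X} (hK : IsComponent K) :
    Nat.card K = 60 ∨ Nat.card K = 660 := by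
  rcases h3 K (C.simple hK) (Ctx.not_comm hK) (C.cl.subgroup K) with h | h | h
  · exact Or.inl h
  · exact Or.inr h
  · obtain ⟨e⟩ := h
    exact (hNJ K e.toMonoidHom e.surjective).elim

end ctx

section core

variable {X : Type u} [Group X] [Finite X]

theorem core_odd : Odd (Nat.card (pPrimeCore 2 X)) :=
  Nat.coprime_two_right.mp (Lib.Cores.pPrimeCore_coprime (G := X) 2)

theorem Cl.ctx (hcl : Cl X) : Ctx (X ⧸ pPrimeCore 2 X) :=
  ⟨hcl.quotient _, Lib.Cores.pPrimeCore_quotient_pPrimeCore 2⟩

/-- quotients by odd normal subgroups -/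
theorem NJ.quotient (h : NJ X) (N : Subgroup X) [N.Normal] : NJ (X ⧸ N) := by
  intro H f hf
  refine h (H.comap (QuotientGroup.mk' N))
    (f.comp ((QuotientGroup.mk' N).subgroupComap H)) ?_
  refine hf.comp ?_
  rintro ⟨y, hy⟩
  obtain ⟨x, rfl⟩ := QuotientGroup.mk'_surjective N y
  exact ⟨⟨x, hy⟩, rfl⟩

theorem not_solvable_quot (hodd : OddSolv.{u}) (hns : ¬ Group.IsSolvable X) :
    ¬ Group.IsSolvable (X ⧸ pPrimeCore 2 X) := by
  intro h
  apply hns
  have h1 : Group.IsSolvable (pPrimeCore 2 X) := hodd _ core_odd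
  exact Group.isSolvable_of_ker_le_range (pPrimeCore 2 X).subtype (QuotientGroup.mk' (pPrimeCore 2 X))
    (by simp)

theorem dvd_or {N : Subgroup X} [N.Normal] {p : ℕ} (hp : p.Prime) (h : p ∣ Nat.card X) :
    p ∣ Nat.card N ∨ p ∣ Nat.card (X ⧸ N) := by
  rw [Subgroup.card_eq_card_quotient_mul_card_subgroup N] at h
  exact ((Nat.Prime.dvd_mul hp).mp h).symm

/-- **II.3** -/
theorem has_two (hodd : OddSolv.{u}) (h3 : Three.{u}) (hcl : Cl X) (hNJ : NJ X)
    (hns : ¬ Group.IsSolvable X) {p : ℕ} (hp : p = 7 ∨ p = 19) (hpX : p ∣ Nat.card X) :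
    Has X (2 * p) := by
  have hpp : p.Prime := by rcases hp with rfl | rfl <;> norm_num
  have hppi : p ∈ pi := by rcases hp with rfl | rfl <;> decide
  have hp2 : (2 : ℕ).Coprime p := by rcases hp with rfl | rfl <;> norm_num
  have C := hcl.ctx
  obtain ⟨K, hK⟩ := C.exists_component hodd (not_solvable_quot hodd hns)
  have hc := comp_card h3 C (hNJ.quotient _) hK
  rcases dvd_or (N := pPrimeCore 2 X) hpp hpX with h | h
  · obtain ⟨e, -, he, v, -, hv, hev⟩ := cpk hcl (pPrimeCore 2 X) core_odd hpp h ⊤ le_top (by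
      rw [Subgroup.card_top, Subgroup.card_eq_card_quotient_mul_card_subgroup (pPrimeCore 2 X)]
      refine Dvd.dvd.mul_right ?_ _
      refine Dvd.dvd.trans ?_ K.card_subgroup_dvd_card
      rcases hc with h | h <;> rw [h] <;> norm_num)
    exact Has.of_commute hev he hv hp2
  · have h1 : Has (X ⧸ pPrimeCore 2 X) (p * 2) := by
      refine C.has_pair hK hc hppi ?_ h Nat.prime_two ?_
      · rcases hc with h | h <;> rw [h] <;> rcases hp with rfl | rfl <;> norm_num
      · rcases hc with h | h <;> rw [h] <;> norm_num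
    rw [mul_comm]
    exact h1.of_surjective (QuotientGroup.mk' _) (QuotientGroup.mk'_surjective _)

/-- an adjacent pair among three primes -/
def Tri (X : Type*) [Group X] (a b c : ℕ) : Prop := Has X (a * b) ∨ Has X (a * c) ∨ Has X (b * c)

theorem tri_of_solvable {M : Subgroup X} (hM : Group.IsSolvable M) {a b c : ℕ} (ha : a.Prime)
    (hb : b.Prime) (hc : c.Prime) (hab : a ≠ b) (hac : a ≠ c) (hbc : b ≠ c) (haM : a ∣ Nat.card M)
    (hbM : b ∣ Nat.card M) (hcM : c ∣ Nat.card M) : Tri M a b c := by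
  rcases H381.Lucido.lucido hM ha hb hc hab hac hbc haM hbM hcM with h | h | h
  · exact Or.inl (Has.of_edge h ((Nat.coprime_primes ha hb).mpr hab))
  · exact Or.inr (Or.inl (Has.of_edge h ((Nat.coprime_primes ha hc).mpr hac)))
  · exact Or.inr (Or.inr (Has.of_edge h ((Nat.coprime_primes hb hc).mpr hbc)))

theorem Tri.of_subgroup {M : Subgroup X} {a b c : ℕ} (h : Tri M a b c) : Tri X a b c := by
  rcases h with h | h | h
  · exact Or.inl h.of_subgroup
  · exact Or.inr (Or.inl h.of_subgroup)
  · exact Or.inr (Or.inr h.of_subgroup)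

/-- solvable case -/
theorem tri_solvable (hX : Group.IsSolvable X) {a b c : ℕ} (ha : a.Prime)
    (hb : b.Prime) (hc : c.Prime) (hab : a ≠ b) (hac : a ≠ c) (hbc : b ≠ c) (haM : a ∣ Nat.card X)
    (hbM : b ∣ Nat.card X) (hcM : c ∣ Nat.card X) : Tri X a b c := by
  have : Group.IsSolvable (⊤ : Subgroup X) := inferInstance
  exact (tri_of_solvable (M := ⊤) this ha hb hc hab hac hbc (by rwa [Subgroup.card_top])
    (by rwa [Subgroup.card_top]) (by rwa [Subgroup.card_top])).of_subgroup

/-- **the case `{7, 11, 19}`** -/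
theorem tri_big (hodd : OddSolv.{u}) (h3 : Three.{u}) (hcl : Cl X) (hNJ : NJ X)
    (h7 : 7 ∣ Nat.card X) (h11 : 11 ∣ Nat.card X) (h19 : 19 ∣ Nat.card X) : Tri X 7 11 19 := by
  have h2f : Fact (Nat.Prime 2) := ⟨Nat.prime_two⟩
  have p7 : Nat.Prime 7 := by norm_num
  have p11 : Nat.Prime 11 := by norm_num
  have p19 : Nat.Prime 19 := by norm_num
  by_cases hns : Group.IsSolvable X
  · exact tri_solvable hns p7 p11 p19 (by norm_num) (by norm_num) (by norm_num) h7 h11 h19
  by_contra hcon
  have hcon' : ¬ Has X (7 * 11) ∧ ¬ Has X (7 * 19) ∧ ¬ Has X (11 * 19) := by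
    unfold Tri at hcon; tauto
  have hKs : Group.IsSolvable (pPrimeCore 2 X) := hodd _ core_odd
  have C := hcl.ctx
  have hNJ' := hNJ.quotient (pPrimeCore 2 X)
  -- one of 7, 19 does not divide the order of the core
  obtain ⟨p, hp, hpK⟩ : ∃ p, (p = 7 ∨ p = 19) ∧ ¬ p ∣ Nat.card (pPrimeCore 2 X) := by
    by_contra h
    push Not at h
    exact H395.Coclique.coclique p7 p19 p11 (by norm_num) (by norm_num) (by norm_num) hcon'.2.1
      hcon'.1 (by rw [mul_comm]; exact hcon'.2.2) (pPrimeCore 2 X) hKs (h 7 (Or.inl rfl))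
      (h 19 (Or.inr rfl)) h11
  have hpX : p ∣ Nat.card (X ⧸ pPrimeCore 2 X) := by
    rcases hp with rfl | rfl
    · exact (dvd_or p7 h7).resolve_left hpK
    · exact (dvd_or p19 h19).resolve_left hpK
  -- no component of order 660
  have h60 : ∀ K : Subgroup (X ⧸ pPrimeCore 2 X), IsComponent K → Nat.card K = 60 := by
    intro K hK
    have hc := comp_card h3 C hNJ' hK
    rcases hc with h | h
    · exact h
    · exfalso
      have h1 : Has (X ⧸ pPrimeCore 2 X) (p * 11) := by
        refine C.has_pair hK (Or.inr h) (by rcases hp with rfl | rfl <;> decide) ?_ hpX p11 ?_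
        · rw [h]; rcases hp with rfl | rfl <;> norm_num
        · rw [h]; norm_num
      have h2 := h1.of_surjective (QuotientGroup.mk' _) (QuotientGroup.mk'_surjective _)
      rcases hp with rfl | rfl
      · exact hcon'.1 h2
      · exact hcon'.2.2 (by rw [mul_comm]; exact h2)
  -- the normalizer of a Sylow 2-subgroup
  obtain ⟨S⟩ : Nonempty (Sylow 2 (X ⧸ pPrimeCore 2 X)) := inferInstance
  set F := generalizedFittingSubgroup (X ⧸ pPrimeCore 2 X) with hF
  have hFn : F.Normal := by
    rw [hF, AbStruct.genFitting_eq C.core]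
    have hn : (pCore 2 (X ⧸ pPrimeCore 2 X)).Normal := Lib.Cores.pCore_normal 2
    have hn2 : (layer (X ⧸ pPrimeCore 2 X)).Normal := LayerBasic.layer_normal _
    infer_instance
  set N := normalizer ((S : Subgroup (X ⧸ pPrimeCore 2 X)) : Set (X ⧸ pPrimeCore 2 X)) with hN
  have hfr : N ⊔ F = ⊤ :=
    Sylow.normalizer_sup_eq_top' S (AbStruct.sylow_le C.core (C.sylow_comm S))
  have hSN : (S : Subgroup (X ⧸ pPrimeCore 2 X)) ≤ N := le_normalizer
  have hNs : Group.IsSolvable N := by
    have hn : ((S : Subgroup (X ⧸ pPrimeCore 2 X)).subgroupOf N).Normal := by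
      rw [hN]; infer_instance
    have h1 : Group.IsSolvable ((S : Subgroup (X ⧸ pPrimeCore 2 X)).subgroupOf N) := by
      have h2 : IsPGroup 2 ((S : Subgroup (X ⧸ pPrimeCore 2 X)).subgroupOf N) := S.2.comap_subtype
      have := h2.isNilpotent
      infer_instance
    have h2 : Odd (Nat.card (N ⧸ (S : Subgroup (X ⧸ pPrimeCore 2 X)).subgroupOf N)) := by
      rw [← Subgroup.index, ← Nat.not_even_iff_odd]
      intro h
      have h4 : ((S : Subgroup (X ⧸ pPrimeCore 2 X)).subgroupOf N).index ∣
          (S : Subgroup (X ⧸ pPrimeCore 2 X)).index := Dvd.intro _ (relIndex_mul_index hSN)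
      exact S.not_dvd_index ((even_iff_two_dvd.mp h).trans h4)
    have h3 : Group.IsSolvable (N ⧸ (S : Subgroup (X ⧸ pPrimeCore 2 X)).subgroupOf N) := hodd _ h2
    exact Group.isSolvable_of_ker_le_range ((S : Subgroup (X ⧸ pPrimeCore 2 X)).subgroupOf N).subtype
      (QuotientGroup.mk' ((S : Subgroup (X ⧸ pPrimeCore 2 X)).subgroupOf N)) (by simp)
  -- primes
  have hdvd : ∀ q : ℕ, q.Prime → 5 < q → q ∣ Nat.card (X ⧸ pPrimeCore 2 X) → q ∣ Nat.card N := by
    intro q hq hq5 hqX
    have h1 := CoprimeBasic.card_sup_dvd (X := F) (Y := N) (by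
      rw [normalizer_eq_top_iff.2 hFn]; exact le_top)
    rw [sup_comm, hfr, Subgroup.card_top] at h1
    rcases (Nat.Prime.dvd_mul hq).mp (hqX.trans h1) with h | h
    · exfalso
      obtain ⟨K, hK, hqK⟩ := C.dvd_genFitting hq (by omega) h
      rw [h60 K hK] at hqK
      have h4 : q ∣ 2 * 2 * 3 * 5 := hqK
      rw [hq.dvd_mul, hq.dvd_mul, hq.dvd_mul] at h4
      rcases h4 with ((h4 | h4) | h4) | h4
      · exact absurd (Nat.le_of_dvd (by norm_num) h4) (by omega)
      · exact absurd (Nat.le_of_dvd (by norm_num) h4) (by omega)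
      · exact absurd (Nat.le_of_dvd (by norm_num) h4) (by omega)
      · exact absurd (Nat.le_of_dvd (by norm_num) h4) (by omega)
    · exact h
  -- the preimage
  set M : Subgroup X := N.comap (QuotientGroup.mk' (pPrimeCore 2 X)) with hM
  let g : M →* N := (QuotientGroup.mk' (pPrimeCore 2 X)).subgroupComap N
  have hg : Function.Surjective g := by
    rintro ⟨y, hy⟩
    obtain ⟨x, rfl⟩ := QuotientGroup.mk'_surjective (pPrimeCore 2 X) y
    exact ⟨⟨x, hy⟩, rfl⟩
  have hKM : pPrimeCore 2 X ≤ M := by
    intro x hx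
    have : QuotientGroup.mk' (pPrimeCore 2 X) x = 1 := (QuotientGroup.eq_one_iff x).mpr hx
    rw [hM, mem_comap, this]
    exact one_mem _
  have hMs : Group.IsSolvable M := by
    have h1 : Group.IsSolvable ((pPrimeCore 2 X).subgroupOf M) :=
      Group.isSolvable_of_isSolvable_injective (f := (subgroupOfEquivOfLe hKM).toMonoidHom)
        (subgroupOfEquivOfLe hKM).injective
    refine Group.isSolvable_of_ker_le_range ((pPrimeCore 2 X).subgroupOf M).subtype g ?_
    intro x hx
    rw [range_subtype, mem_subgroupOf]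
    have h2 : g x = 1 := hx
    exact (QuotientGroup.eq_one_iff (x : X)).mp (congrArg Subtype.val h2)
  have hdM : ∀ q : ℕ, q.Prime → 5 < q → q ∣ Nat.card X → q ∣ Nat.card M := by
    intro q hq hq5 hqX
    rcases dvd_or (N := pPrimeCore 2 X) hq hqX with h | h
    · exact h.trans (card_dvd_of_le hKM)
    · exact (hdvd q hq hq5 h).trans (Subgroup.card_dvd_of_surjective g hg)
  exact hcon (tri_of_solvable hMs p7 p11 p19 (by norm_num) (by norm_num) (by norm_num)
    (hdM 7 p7 (by norm_num) h7) (hdM 11 p11 (by norm_num) h11)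
    (hdM 19 p19 (by norm_num) h19)).of_subgroup

/-- **Theorem C** for `2` and two further primes -/
theorem tri_two (hodd : OddSolv.{u}) (h3 : Three.{u}) (hcl : Cl X) (hNJ : NJ X) {b c : ℕ}
    (hb : b ∈ pi) (hc : c ∈ pi) (hbc : b ≠ c) (h2X : 2 ∣ Nat.card X) (hbX : b ∣ Nat.card X)
    (hcX : c ∣ Nat.card X) : Tri X 2 b c := by
  have hb2 : (2 : ℕ) ≠ b := by rintro rfl; revert hb; decide
  have hc2 : (2 : ℕ) ≠ c := by rintro rfl; revert hc; decide
  by_cases hns : Group.IsSolvable X
  · exact tri_solvable hns Nat.prime_two (pi_prime hb) (pi_prime hc) hb2 hc2 hbc h2X hbX hcX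
  · by_cases hb7 : b = 7 ∨ b = 19
    · exact Or.inl (has_two hodd h3 hcl hNJ hns hb7 hbX)
    · by_cases hc7 : c = 7 ∨ c = 19
      · exact Or.inr (Or.inl (has_two hodd h3 hcl hNJ hns hc7 hcX))
      · exfalso
        simp only [pi, Finset.mem_insert, Finset.mem_singleton] at hb hc
        omega

/-- **no element of `rho` commuting with elements of the three other primes** -/
theorem no_cent {G : Type u} [Group G] [Finite G] (hodd : OddSolv.{u}) (h3 : Three.{u})
    (hcl : Cl G) (hNJ : NJ G) {t : G} {d : ℕ} (ht : orderOf t = d) (hd : d ∈ rho)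
    (h : ∀ q ∈ rho, q ≠ d → q ∣ Nat.card (centralizer ({t} : Set G))) : False := by
  have hle : ∀ {a b : ℕ}, a ∈ rho → b ∈ rho → a ≠ d → b ≠ d → a ≠ b →
      Has (centralizer ({t} : Set G)) (a * b) → False := by
    intro a b ha hb had hbd hab hh
    refine hcl.no_mul_cent ht le_rfl hh ?_ ?_
    · exact Nat.Coprime.mul_right (rho_coprime hd ha had.symm) (rho_coprime hd hb hbd.symm)
    · rw [← mul_assoc]
      exact rho_triple d hd a ha b hb had.symm hbd.symm hab
  have hcl' := hcl.subgroup (centralizer ({t} : Set G))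
  have hNJ' := hNJ.subgroup (centralizer ({t} : Set G))
  have key : ∀ {b c : ℕ}, b ∈ pi → c ∈ pi → b ≠ c → b ≠ d → c ≠ d → 2 ≠ d → False := by
    intro b c hb hc hbc hbd hcd h2d
    have h1 := tri_two hodd h3 hcl' hNJ' hb hc hbc (h 2 (by decide) h2d) (h b (pi_le hb) hbd)
      (h c (pi_le hc) hcd)
    have hb2 : (2 : ℕ) ≠ b := by rintro rfl; revert hb; decide
    have hc2 : (2 : ℕ) ≠ c := by rintro rfl; revert hc; decide
    rcases h1 with h1 | h1 | h1
    · exact hle (by decide) (pi_le hb) h2d hbd hb2 h1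
    · exact hle (by decide) (pi_le hc) h2d hcd hc2 h1
    · exact hle (pi_le hb) (pi_le hc) hbd hcd hbc h1
  simp only [rho, Finset.mem_insert, Finset.mem_singleton] at hd
  rcases hd with rfl | rfl | rfl | rfl
  · rcases tri_big hodd h3 hcl' hNJ' (h 7 (by decide) (by norm_num)) (h 11 (by decide) (by norm_num))
      (h 19 (by decide) (by norm_num)) with h1 | h1 | h1
    · exact hle (by decide) (by decide) (by norm_num) (by norm_num) (by norm_num) h1
    · exact hle (by decide) (by decide) (by norm_num) (by norm_num) (by norm_num) h1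
    · exact hle (by decide) (by decide) (by norm_num) (by norm_num) (by norm_num) h1
  · exact key (b := 11) (c := 19) (by decide) (by decide) (by norm_num) (by norm_num) (by norm_num) (by norm_num)
  · exact key (b := 7) (c := 19) (by decide) (by decide) (by norm_num) (by norm_num) (by norm_num) (by norm_num)
  · exact key (b := 7) (c := 11) (by decide) (by decide) (by norm_num) (by norm_num) (by norm_num) (by norm_num)

end core

end Cfsg.Agent.H389.JSq
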