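import Cfsg.Agent.H389.One
import Cfsg.Agent.H389.JSqKer

/-!
# Recognition of `J₁ × J₁` (helper389)
-/

set_option autoImplicit false

namespace Cfsg.Agent.H389.JSq

open Subgroup Cfsg
open Cfsg.Spor (J1)
open Cfsg.Agent.SignalizersComponents
open Cfsg.Agent.SignalizersComponents.Components
open Cfsg.Agent.Walter

universe u

theorem num_two : ∀ p ∈ ({2, 3, 5, 7, 11, 19} : Finset ℕ), ∃ s ∈ pi, ∃ s' ∈ pi, p ≠ s ∧ p ≠ s' ∧ s ≠ s' ∧
    p * s * s' ∉ om := by decide +kernel

section ctx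

variable {X : Type u} [Group X] [Finite X]

namespace Ctx

variable (C : Ctx X)
include C

/-- nothing commutes with two components isomorphic to `J₁` -/
theorem inf_eq_bot {J J' : Subgroup X} (hJ : IsComponent J) (hJ' : IsComponent J') (hne : J ≠ J')
    (e : J ≃* J1) (e' : J' ≃* J1) :
    centralizer (J : Set X) ⊓ centralizer (J' : Set X) = ⊥ := by
  by_contra h
  have h1 : Nat.card (centralizer (J : Set X) ⊓ centralizer (J' : Set X) : Subgroup X) ≠ 1 := by
    intro h2
    exact h (Subgroup.eq_bot_of_card_eq _ h2)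
  obtain ⟨p, hp, hpd⟩ := Nat.exists_prime_and_dvd h1
  obtain ⟨d, hd, hdo⟩ := H381.Tools.exists_mem_of_dvd hp hpd
  have h2 := C.cl.prime_dvd hp (hdo ▸ orderOf_dvd_natCard d)
  obtain ⟨s, hs, s', hs', hps, hps', hss', hno⟩ := num_two p (by
    simp only [Finset.mem_insert, Finset.mem_singleton]
    tauto)
  have hcJ : Nat.card J = 175560 := by rw [Nat.card_congr e.toEquiv, H413.JOneLocal.card_J1]
  have hcJ' : Nat.card J' = 175560 := by rw [Nat.card_congr e'.toEquiv, H413.JOneLocal.card_J1]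
  obtain ⟨j, hj, hjs⟩ := H381.Tools.exists_mem_of_dvd (X := J) (pi_prime hs) (by
    rw [hcJ]; exact (by decide : ∀ s ∈ pi, s ∣ 175560) s hs)
  obtain ⟨j', hj', hjs'⟩ := H381.Tools.exists_mem_of_dvd (X := J') (pi_prime hs') (by
    rw [hcJ']; exact (by decide : ∀ s ∈ pi, s ∣ 175560) s' hs')
  have c1 : Commute d j := (mem_centralizer_iff.mp hd.1 j hj).symm
  have c2 : Commute d j' := (mem_centralizer_iff.mp hd.2 j' hj').symm
  have c3 : Commute j j' := (mem_centralizer_iff.mp (comm_of_ne hJ hJ' hne hj) j' hj').symm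
  exact hno (C.cl.mul3 hdo hjs hjs' c1 c2 c3 ((Nat.coprime_primes hp (pi_prime hs)).mpr hps)
    ((Nat.coprime_primes hp (pi_prime hs')).mpr hps')
    ((Nat.coprime_primes (pi_prime hs) (pi_prime hs')).mpr hss'))

theorem comp_ne_bot {K : Subgroup X} (hK : IsComponent K) : K ≠ ⊥ := by
  intro h
  have := C.simple hK
  have h1 : Nontrivial K := inferInstance
  rw [Subgroup.nontrivial_iff_ne_bot] at h1
  exact h1 h

/-- `J` is normal -/
theorem normal_of_two {J J' : Subgroup X} (hJ : IsComponent J) (hJ' : IsComponent J') (hne : J ≠ J')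
    (e : J ≃* J1) (e' : J' ≃* J1) : J.Normal := by
  have h2f : Fact (Nat.Prime 2) := ⟨Nat.prime_two⟩
  obtain ⟨S⟩ : Nonempty (Sylow 2 X) := inferInstance
  have hall : ∀ K : Subgroup X, IsComponent K → K = J ∨ K = J' := by
    intro K hK
    by_contra hcon
    push Not at hcon
    apply C.comp_ne_bot hK
    rw [eq_bot_iff, ← C.inf_eq_bot hJ hJ' hne e e']
    exact le_inf (comm_of_ne hK hJ hcon.1) (comm_of_ne hK hJ' hcon.2)
  have hSN := AbStruct.le_normalizer C.core (C.sylow_comm S) hJ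
  rw [← normalizer_eq_top_iff]
  by_contra hN
  obtain ⟨a, -, ha⟩ : ∃ a ∈ (⊤ : Subgroup X), a ∉ normalizer (J : Set X) := by
    by_contra hcon
    push Not at hcon
    exact hN (eq_top_iff.mpr hcon)
  have hc : ∀ g : X, ∀ K, IsComponent K → IsComponent (K.map (MulAut.conj g).toMonoidHom) :=
    fun g K hK => isComponent_conj g hK
  have hout : ∀ g : X, g ∉ normalizer (J : Set X) → J.map (MulAut.conj g).toMonoidHom = J' := by
    intro g hg
    rcases hall _ (hc g J hJ) with h | h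
    · exact (hg (mem_normalizer_of_map h)).elim
    · exact h
  have hin : ∀ g : X, g ∈ normalizer (J : Set X) → J.map (MulAut.conj g).toMonoidHom = J := by
    intro g hg
    ext x
    constructor
    · rintro ⟨y, hy, rfl⟩
      exact (mem_normalizer_iff.mp hg y).mp hy
    · intro hx
      refine ⟨g⁻¹ * x * g, ?_, ?_⟩
      · have h1 := (mem_normalizer_iff.mp (inv_mem hg) x).mp hx
        rwa [inv_inv] at h1
      · show g * (g⁻¹ * x * g) * g⁻¹ = x
        group
  have haJ' : J'.map (MulAut.conj a).toMonoidHom = J := by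
    rcases hall _ (hc a J' hJ') with h | h
    · exact h
    · exfalso
      apply hne
      have h1 := hout a ha
      rw [← h] at h1
      exact Subgroup.map_injective (MulAut.conj a).injective h1
  have hcomp : ∀ (g h : X) (K : Subgroup X), K.map (MulAut.conj (g * h)).toMonoidHom =
      (K.map (MulAut.conj h).toMonoidHom).map (MulAut.conj g).toMonoidHom := by
    intro g h K
    rw [Subgroup.map_map]
    congr 1
    ext x
    show (g * h) * x * (g * h)⁻¹ = g * (h * x * h⁻¹) * g⁻¹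
    group
  have hidx : (normalizer (J : Set X)).index = 2 := by
    rw [index_eq_two_iff']
    refine ⟨a, fun b => ?_⟩
    by_cases hb : b ∈ normalizer (J : Set X)
    · right
      refine ⟨hb, fun h => ?_⟩
      have h1 := hin _ h
      rw [hcomp, hin b hb, hout a ha] at h1
      exact hne h1.symm
    · left
      refine ⟨?_, hb⟩
      apply mem_normalizer_of_map
      rw [hcomp, hout b hb, haJ']
  have h1 : (normalizer (J : Set X)).index ∣ (S : Subgroup X).index := index_dvd_of_le hSN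
  rw [hidx] at h1
  exact S.not_dvd_index h1

end Ctx

end ctx

section main

variable {G : Type u} [Group G] [Finite G]

theorem of_two (hodd : OddSolv.{u}) (hG : Full G)
    {J J' : Subgroup (G ⧸ pPrimeCore 2 G)} (hJ : IsComponent J) (hJ' : IsComponent J') (hne : J ≠ J')
    (e : J ≃* J1) (e' : J' ≃* J1) : Nonempty (G ≃* J1 × J1) := by
  have C := hG.cl.ctx
  set f := QuotientGroup.mk' (pPrimeCore 2 G) with hf
  have hfs : Function.Surjective f := QuotientGroup.mk'_surjective _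
  have hker : f.ker = pPrimeCore 2 G := QuotientGroup.ker_mk' _
  have hJn := C.normal_of_two hJ hJ' hne e e'
  have hJn' := C.normal_of_two hJ' hJ hne.symm e' e
  obtain ⟨φ, hφJ, hφk⟩ := exists_hom J e
  obtain ⟨φ', hφJ', hφk'⟩ := exists_hom J' e'
  have hcomm : ∀ j ∈ J, ∀ j' ∈ J', Commute j j' := by
    intro j hj j' hj'
    exact (mem_centralizer_iff.mp (Ctx.comm_of_ne hJ hJ' hne hj) j' hj').symm
  have h1 : ∀ j ∈ J', φ j = 1 := by
    intro j' hj'
    rw [← MonoidHom.mem_ker, hφk, mem_centralizer_iff]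
    intro j hj
    exact hcomm j hj j' hj'
  have h2 : ∀ j ∈ J, φ' j = 1 := by
    intro j hj
    rw [← MonoidHom.mem_ker, hφk', mem_centralizer_iff]
    intro j' hj'
    exact (hcomm j hj j' hj').symm
  let F : G →* J1 × J1 := (φ.prod φ').comp f
  have hFs : Function.Surjective F := by
    rintro ⟨a, b⟩
    obtain ⟨g, hg⟩ := hfs (((e.symm a : J) : G ⧸ pPrimeCore 2 G) * ((e'.symm b : J') : G ⧸ pPrimeCore 2 G))
    refine ⟨g, ?_⟩
    show (φ.prod φ') (f g) = (a, b)
    rw [hg, MonoidHom.prod_apply, map_mul, map_mul, hφJ, hφJ', h1 _ (e'.symm b).2, h2 _ (e.symm a).2,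
      MulEquiv.apply_symm_apply, MulEquiv.apply_symm_apply, mul_one, one_mul]
  have hFk : F.ker = pPrimeCore 2 G := by
    rw [← hker]
    ext x
    rw [MonoidHom.mem_ker, MonoidHom.mem_ker]
    constructor
    · intro h
      have h3 : φ (f x) = 1 ∧ φ' (f x) = 1 := by
        rw [← Prod.mk_eq_one]; exact h
      have h4 : f x ∈ centralizer (J : Set (G ⧸ pPrimeCore 2 G)) ⊓ centralizer (J' : Set (G ⧸ pPrimeCore 2 G)) := by
        refine ⟨?_, ?_⟩
        · rw [← hφk]; exact h3.1
        · rw [← hφk']; exact h3.2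
      rwa [C.inf_eq_bot hJ hJ' hne e e', mem_bot] at h4
    · intro h
      show (φ.prod φ') (f x) = 1
      rw [h, map_one]
  have hk := ker_eq_bot hG.cl F hFs (by rw [hFk]; exact core_odd) (by
    rw [hFk]; exact hodd _ core_odd)
  exact ⟨MulEquiv.ofBijective F ⟨(MonoidHom.ker_eq_bot_iff F).mp hk, hFs⟩⟩

/-- **the recognition theorem** -/
theorem recognition (hodd : OddSolv.{u}) (h3 : Three.{u}) (hG : Full G) : Nonempty (G ≃* J1 × J1) := by
  have C := hG.cl.ctx
  by_cases hex : ∃ J : Subgroup (G ⧸ pPrimeCore 2 G), IsComponent J ∧ Nonempty (J ≃* J1)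
  · obtain ⟨J, hJ, ⟨e⟩⟩ := hex
    by_cases huniq : ∀ K : Subgroup (G ⧸ pPrimeCore 2 G), IsComponent K → Nonempty (K ≃* J1) → K = J
    · exact (false_of_one hodd h3 hG hJ e huniq).elim
    · push Not at huniq
      obtain ⟨J', hJ', ⟨e'⟩, hne⟩ := huniq
      exact of_two hodd hG hJ hJ' hne.symm e e'
  · exfalso
    refine not_NJ hodd h3 hG ?_
    refine NJ.of_hom (QuotientGroup.mk' (pPrimeCore 2 G)) (by rw [QuotientGroup.ker_mk']; exact core_odd) ?_
    apply C.nJ
    intro K hK
    rcases h3 K (C.simple hK) (Ctx.not_comm hK) (C.cl.subgroup K) with h | h | h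
    · exact Or.inl h
    · exact Or.inr h
    · exact (hex ⟨K, hK, h⟩).elim

theorem om_iff : ∀ n ∈ om, ∃ a ∈ ({1, 2, 3, 5, 6, 7, 10, 11, 15, 19} : Finset ℕ),
    ∃ b ∈ ({1, 2, 3, 5, 6, 7, 10, 11, 15, 19} : Finset ℕ), Nat.lcm a b = n := by decide +kernel

theorem lcm_mem : ∀ a ∈ ({1, 2, 3, 5, 6, 7, 10, 11, 15, 19} : Finset ℕ),
    ∀ b ∈ ({1, 2, 3, 5, 6, 7, 10, 11, 15, 19} : Finset ℕ), Nat.lcm a b ∈ om := by decide +kernel

/-- **the element orders of `J₁ × J₁`** -/
theorem has_iff (n : ℕ) : Has (J1 × J1) n ↔ n ∈ om := by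
  constructor
  · rintro ⟨⟨a, b⟩, rfl⟩
    rw [Prod.orderOf_mk]
    exact lcm_mem _ (H413.JOneSpec.orderOf_mem_J1 a) _ (H413.JOneSpec.orderOf_mem_J1 b)
  · intro h
    obtain ⟨a, ha, b, hb, hab⟩ := om_iff n h
    obtain ⟨x, rfl⟩ := (H413.JOneSpec.exists_orderOf_iff a).mpr ha
    obtain ⟨y, rfl⟩ := (H413.JOneSpec.exists_orderOf_iff b).mpr hb
    exact ⟨(x, y), by rw [Prod.orderOf_mk, hab]⟩

theorem full_of_spec (h : Set.range (orderOf : G → ℕ) = Set.range (orderOf : J1 × J1 → ℕ)) :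
    Full G := by
  have hiff : ∀ n, Has G n ↔ n ∈ om := by
    intro n
    rw [← has_iff]
    exact Set.ext_iff.mp h n
  exact ⟨fun g => (hiff _).mp ⟨g, rfl⟩, fun n hn => (hiff n).mpr hn⟩

end main

end Cfsg.Agent.H389.JSq
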