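import Cfsg.Agent.H389.ThmC
import Cfsg.Agent.H381.Crit
import Cfsg.Agent.SmallSimple.InvolFour

/-!
# Groups with the element orders of `J₁ × J₁` have a `J₁`-section (helper389)
-/

set_option autoImplicit false

namespace Cfsg.Agent.H389.JSq

open Subgroup Cfsg
open Cfsg.Spor (J1)
open Cfsg.Agent.SignalizersComponents
open Cfsg.Agent.SignalizersComponents.Components
open Cfsg.Agent.Walter

universe u

/-- the element orders are those of `J₁ × J₁` -/
structure Full (G : Type*) [Group G] : Prop where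
  cl : Cl G
  has : ∀ n ∈ om, Has G n

theorem om_pair : ∀ a ∈ rho, ∀ b ∈ rho, a ≠ b → a * b ∈ om := by decide +kernel

section sylow

variable {G : Type*} [Group G] [Finite G]

/-- if `a²` does not divide the group order all elements of order `a` have similar centralizers -/
theorem dvd_cent {a : ℕ} (ha : a.Prime) (h : ¬ a ^ 2 ∣ Nat.card G) {x x' z : G}
    (hx : orderOf x = a) (hx' : orderOf x' = a) (hz : Commute x' z) :
    orderOf z ∣ Nat.card (centralizer ({x} : Set G)) := by
  have haf : Fact a.Prime := ⟨ha⟩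
  have key : ∀ y : G, orderOf y = a → ∃ P : Sylow a G, (P : Subgroup G) = zpowers y := by
    intro y hy
    have h1 : IsPGroup a (zpowers y) := H381.Tools.isPGroup_zpowers ha hy
    obtain ⟨P, hP⟩ := h1.exists_le_sylow
    refine ⟨P, ?_⟩
    obtain ⟨k, hk⟩ := IsPGroup.iff_card.mp P.2
    have hk2 : k < 2 := by
      by_contra hcon
      have h2 : a ^ 2 ∣ Nat.card (P : Subgroup G) := by rw [hk]; exact pow_dvd_pow a (not_lt.mp hcon)
      exact h (h2.trans (P : Subgroup G).card_subgroup_dvd_card)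
    symm
    apply Subgroup.eq_of_le_of_card_ge hP
    rw [hk, Nat.card_zpowers, hy]
    calc a ^ k ≤ a ^ 1 := Nat.pow_le_pow_right ha.pos (by omega)
      _ = a := pow_one a
  obtain ⟨P, hP⟩ := key x hx
  obtain ⟨Q, hQ⟩ := key x' hx'
  obtain ⟨g, hg⟩ := MulAction.exists_smul_eq G Q P
  have h1 : g * x' * g⁻¹ ∈ zpowers x := by
    rw [← hP, ← hg]
    have h2 : x' ∈ (Q : Subgroup G) := by rw [hQ]; exact mem_zpowers x'
    change g * x' * g⁻¹ ∈ ((g • Q : Sylow a G) : Subgroup G)
    rw [Sylow.coe_subgroup_smul]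
    exact ⟨x', h2, by simp [MulAut.smul_def]⟩
  have h2 : orderOf (g * x' * g⁻¹) = a := by
    rw [← hx']; exact (MulAut.conj g).orderOf_eq x'
  have h3 := H381.Tools.zpowers_eq_of_mem hx h2 h1
  have h4 : Commute (g * x' * g⁻¹) (g * z * g⁻¹) := by
    show _ * _ = _ * _
    have := hz.eq
    calc g * x' * g⁻¹ * (g * z * g⁻¹) = g * (x' * z) * g⁻¹ := by group
      _ = g * (z * x') * g⁻¹ := by rw [this]
      _ = g * z * g⁻¹ * (g * x' * g⁻¹) := by group
  obtain ⟨n, hn⟩ := mem_zpowers_iff.mp h3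
  have h5 : Commute x (g * z * g⁻¹) := by rw [← hn]; exact h4.zpow_left n
  have h6 : orderOf (g * z * g⁻¹) = orderOf z := (MulAut.conj g).orderOf_eq z
  rw [← h6]
  exact Subgroup.orderOf_dvd_natCard _ (H381.Tools.mem_cent_iff.mpr h5)

theorem dvd_cent_of_has {a b : ℕ} (ha : a.Prime) (hb : b.Prime) (h : ¬ a ^ 2 ∣ Nat.card G) {x : G}
    (hx : orderOf x = a) (hab : Has G (a * b)) : b ∣ Nat.card (centralizer ({x} : Set G)) := by
  obtain ⟨g, hg⟩ := hab
  obtain ⟨x', z, h1, h2, h3⟩ := H381.Tools.exists_pair ha.ne_zero hb.ne_zero hg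
  rw [← h3]
  exact dvd_cent ha h hx h2 h1

end sylow

section full

variable {G : Type u} [Group G] [Finite G]

/-- squares of the primes of `rho` divide the group order -/
theorem sq_dvd (hodd : OddSolv.{u}) (h3 : Three.{u}) (hG : Full G) (hNJ : NJ G) {a : ℕ} (ha : a ∈ rho) :
    a ^ 2 ∣ Nat.card G := by
  by_contra h
  have hap := rho_prime ha
  obtain ⟨b, hb, hab⟩ : ∃ b ∈ rho, a ≠ b := by
    by_cases h2 : a = 2
    · exact ⟨7, by decide, by rw [h2]; norm_num⟩
    · exact ⟨2, by decide, h2⟩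
  have h1 : a ∣ Nat.card G :=
    (Dvd.intro b rfl).trans (dvd_card_of_has (hG.has _ (om_pair a ha b hb hab)))
  obtain ⟨x, hx⟩ := Has.of_prime_dvd hap h1
  refine no_cent hodd h3 hG.cl hNJ hx ha ?_
  intro q hq hqa
  exact dvd_cent_of_has hap (rho_prime hq) h hx (hG.has _ (om_pair a ha q hq hqa.symm))

theorem not_solvable (hG : Full G) : ¬ Group.IsSolvable G := by
  have hset : ∀ a : ℕ, a ∈ ({2, 7, 11, 19} : Set ℕ) → a ∈ rho := by
    intro a ha
    simpa [rho] using ha
  refine H381.Criterion.not_solvable (p := 2) (q := 7) (r := 11) (s := 19) (by norm_num) (by norm_num)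
    (by norm_num) (by norm_num) (by norm_num) (by norm_num) (by norm_num) (by norm_num) (by norm_num)
    (by norm_num) ?_ ?_ ?_
  · intro a ha b hb hab
    exact hG.has _ (om_pair a (hset a ha) b (hset b hb) hab)
  · intro a ha b hb c hc hab hbc hac g hg
    exact rho_triple a (hset a ha) b (hset b hb) c (hset c hc) hab hac hbc (by rw [← hg]; exact hG.cl g)
  · intro _ a ha m hm h
    have hm1 : 2 ∣ 2 ^ m := dvd_pow_self 2 hm
    have h5 : m < 5 := by
      by_contra hcon
      have h6 : 2 ^ 5 ≤ 2 ^ m := Nat.pow_le_pow_right (by norm_num) (not_lt.mp hcon)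
      simp only [Set.mem_insert_iff, Set.mem_singleton_iff] at ha
      omega
    simp only [Set.mem_insert_iff, Set.mem_singleton_iff] at ha
    interval_cases m <;> omega

end full

section conj

variable {X : Type u} [Group X]

theorem map_conj_ne {L : Subgroup X} {a b : X} (h : a⁻¹ * b ∉ normalizer (L : Set X)) :
    L.map (MulAut.conj b).toMonoidHom ≠ L.map (MulAut.conj a).toMonoidHom := by
  intro h1
  apply h
  apply Ctx.mem_normalizer_of_map
  have h2 : (MulAut.conj (a⁻¹ * b)).toMonoidHom =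
      (MulAut.conj a⁻¹).toMonoidHom.comp (MulAut.conj b).toMonoidHom := by
    ext x
    show a⁻¹ * b * x * (a⁻¹ * b)⁻¹ = a⁻¹ * (b * x * b⁻¹) * a⁻¹⁻¹
    group
  rw [h2, ← Subgroup.map_map, h1, Subgroup.map_map]
  have h3 : (MulAut.conj a⁻¹).toMonoidHom.comp (MulAut.conj a).toMonoidHom = MonoidHom.id X := by
    ext x
    show a⁻¹ * (a * x * a⁻¹) * a⁻¹⁻¹ = x
    group
  rw [h3, Subgroup.map_id]

theorem map_conj_le {L : Subgroup X} (hL : IsComponent L) {a b : X}
    (h : a⁻¹ * b ∉ normalizer (L : Set X)) :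
    L.map (MulAut.conj b).toMonoidHom ≤ centralizer ((L.map (MulAut.conj a).toMonoidHom : Subgroup X) : Set X) :=
  Ctx.comm_of_ne (isComponent_conj b hL) (isComponent_conj a hL) (map_conj_ne h)

end conj

theorem num30 : ∀ p ∈ pi, p * (2 * 3 * 5) ∉ om := by decide +kernel

namespace Ctx

variable {X : Type u} [Group X] [Finite X] (C : Ctx X)
include C

/-- a `p`-subgroup of order at least `p²` acting freely on the conjugates of a component -/
theorem false_of_free {L : Subgroup X} (hL : IsComponent L) (hLc : Nat.card L = 60 ∨ Nat.card L = 660)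
    {p : ℕ} (hp : p ∈ pi) {P : Subgroup X} (hP : IsPGroup p P) (hPc : p < Nat.card P)
    (hfree : ∀ y ∈ P, y ≠ 1 → y ∉ normalizer (L : Set X)) : False := by
  have hpp := pi_prime hp
  have hpf : Fact p.Prime := ⟨hpp⟩
  have hp5 : 5 < p := by
    simp only [pi, Finset.mem_insert, Finset.mem_singleton] at hp
    omega
  -- a central element
  have hnt : Nontrivial P := by
    rw [← Finite.one_lt_card_iff_nontrivial]
    exact hpp.one_lt.trans hPc
  obtain ⟨⟨x', hx'c⟩, hx'1⟩ := @exists_ne _ hP.center_nontrivial 1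
  set x : X := (x' : X) with hx
  have hxP : x ∈ P := x'.2
  have hx1 : x ≠ 1 := by
    intro h
    apply hx'1
    exact Subtype.ext (Subtype.ext h)
  have hxo : orderOf x = p := C.cl.orderOf_eq hpp hP hxP hx1
  have hxc : ∀ y ∈ P, Commute x y := by
    intro y hy
    have := mem_center_iff.mp hx'c ⟨y, hy⟩
    exact (congrArg Subtype.val this).symm
  obtain ⟨g, hgP, hgx⟩ : ∃ g ∈ P, g ∉ zpowers x := by
    by_contra hcon
    push Not at hcon
    have h1 : P ≤ zpowers x := hcon
    have h2 := Nat.le_of_dvd Nat.card_pos (card_dvd_of_le h1)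
    rw [Nat.card_zpowers, hxo] at h2
    omega
  -- the elements `x ^ j g ^ i`
  have hgp : g ^ p = 1 := C.cl.pow_eq_one hpp hP hgP
  have hgd : ∀ d : ℕ, 0 < d → d < 3 → g ^ d ∉ zpowers x := by
    intro d hd hd3 h
    apply hgx
    have hc : d.Coprime (orderOf g) := by
      refine Nat.Coprime.coprime_dvd_right (orderOf_dvd_of_pow_eq_one hgp) ?_
      exact ((Nat.Prime.coprime_iff_not_dvd hpp).mpr (fun h => by
        have := Nat.le_of_dvd hd h
        omega)).symm
    obtain ⟨v, hv⟩ := exists_pow_eq_self_of_coprime hc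
    rw [← hv]
    exact pow_mem h v
  have hne : ∀ i i' j : ℕ, i < 3 → i' < 3 → j < p → (i ≠ i' ∨ 0 < j) →
      (g ^ i')⁻¹ * (x ^ j * g ^ i) ∉ normalizer (L : Set X) := by
    intro i i' j hi hi' hj hor
    apply hfree
    · exact mul_mem (inv_mem (pow_mem hgP _)) (mul_mem (pow_mem hxP _) (pow_mem hgP _))
    · intro h1
      have h2 : x ^ j * g ^ i = g ^ i' := (inv_mul_eq_one.mp h1).symm
      rcases lt_trichotomy i i' with h | h | h
      · apply hgd (i' - i) (by omega) (by omega)
        have h3 : g ^ (i' - i) = x ^ j := by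
          have h4 : g ^ i' = g ^ (i' - i) * g ^ i := by rw [← pow_add]; congr 1; omega
          rw [h4] at h2
          exact (mul_right_cancel h2).symm
        rw [h3]; exact pow_mem (mem_zpowers x) j
      · subst h
        have h3 : x ^ j = 1 := by
          have : x ^ j * g ^ i = 1 * g ^ i := by rw [h2, one_mul]
          exact mul_right_cancel this
        rw [← orderOf_dvd_iff_pow_eq_one, hxo] at h3
        have hj0 : 0 < j := hor.resolve_left (fun h => h rfl)
        have := Nat.le_of_dvd hj0 h3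
        omega
      · apply hgd (i - i') (by omega) (by omega)
        have h3 : x ^ j * g ^ (i - i') = 1 := by
          have h4 : g ^ i = g ^ (i - i') * g ^ i' := by rw [← pow_add]; congr 1; omega
          rw [h4, ← mul_assoc] at h2
          have : x ^ j * g ^ (i - i') * g ^ i' = 1 * g ^ i' := by rw [h2, one_mul]
          exact mul_right_cancel this
        have h4 : g ^ (i - i') = (x ^ j)⁻¹ := (eq_inv_of_mul_eq_one_right h3)
        rw [h4]; exact inv_mem (pow_mem (mem_zpowers x) j)
  -- the three components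
  set A : ℕ → Subgroup X := fun i => L.map (MulAut.conj (g ^ i)).toMonoidHom with hA
  have hAc : ∀ i, IsComponent (A i) := fun i => isComponent_conj (g ^ i) hL
  have hAcard : ∀ i, Nat.card (A i) = Nat.card L := fun i =>
    (Nat.card_congr (L.equivMapOfInjective _ (MulAut.conj (g ^ i)).injective).toEquiv).symm
  have hAA : ∀ i i', i < 3 → i' < 3 → i ≠ i' → A i ≤ centralizer (A i' : Set X) := by
    intro i i' hi hi' hii
    apply map_conj_le hL
    have := hne i i' 0 hi hi' hpp.pos (Or.inl hii)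
    rwa [pow_zero, one_mul] at this
  have hAx : ∀ i i' j, i < 3 → i' < 3 → 0 < j → j < p →
      (A i).map (MulAut.conj (x ^ j)).toMonoidHom ≤ centralizer (A i' : Set X) := by
    intro i i' j hi hi' hj hjp
    have h1 : (A i).map (MulAut.conj (x ^ j)).toMonoidHom =
        L.map (MulAut.conj (x ^ j * g ^ i)).toMonoidHom := by
      rw [hA, Subgroup.map_map]
      congr 1
      ext y
      show x ^ j * (g ^ i * y * (g ^ i)⁻¹) * (x ^ j)⁻¹ = (x ^ j * g ^ i) * y * (x ^ j * g ^ i)⁻¹
      group
    rw [h1]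
    exact map_conj_le hL (hne i i' j hi hi' hjp (Or.inr hj))
  set M : Subgroup X := A 0 ⊔ A 1 ⊔ A 2 with hM
  have hcM : ∀ B : Subgroup X, (∀ i, i < 3 → B ≤ centralizer (A i : Set X)) →
      B ≤ centralizer (M : Set X) := by
    intro B hB
    rw [le_centralizer_iff, hM, sup_le_iff, sup_le_iff]
    refine ⟨⟨?_, ?_⟩, ?_⟩
    · rw [le_centralizer_iff]; exact hB 0 (by norm_num)
    · rw [le_centralizer_iff]; exact hB 1 (by norm_num)
    · rw [le_centralizer_iff]; exact hB 2 (by norm_num)
  have hMx : ∀ j, 0 < j → j < p → ∀ n ∈ M, x ^ j * n * (x ^ j)⁻¹ ∈ centralizer (M : Set X) := by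
    intro j hj hjp n hn
    have h1 : M.map (MulAut.conj (x ^ j)).toMonoidHom ≤ centralizer (M : Set X) := by
      rw [hM, Subgroup.map_sup, Subgroup.map_sup, sup_le_iff, sup_le_iff, ← hM]
      refine ⟨⟨?_, ?_⟩, ?_⟩
      · exact hcM _ (fun i hi => hAx 0 i j (by norm_num) hi hj hjp)
      · exact hcM _ (fun i hi => hAx 1 i j (by norm_num) hi hj hjp)
      · exact hcM _ (fun i hi => hAx 2 i j (by norm_num) hi hj hjp)
    exact h1 ⟨n, hn, rfl⟩
  -- elements of orders 2, 3, 5
  have hd2 : 2 ∣ Nat.card L := by rcases hLc with h | h <;> rw [h] <;> norm_num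
  have hd3 : 3 ∣ Nat.card L := by rcases hLc with h | h <;> rw [h] <;> norm_num
  have hd5 : 5 ∣ Nat.card L := by rcases hLc with h | h <;> rw [h] <;> norm_num
  obtain ⟨n0, hn0, ho0⟩ := H381.Tools.exists_mem_of_dvd (X := A 0) (q := 2) (by norm_num) (by rw [hAcard]; exact hd2)
  obtain ⟨n1, hn1, ho1⟩ := H381.Tools.exists_mem_of_dvd (X := A 1) (q := 3) (by norm_num) (by rw [hAcard]; exact hd3)
  obtain ⟨n2, hn2, ho2⟩ := H381.Tools.exists_mem_of_dvd (X := A 2) (q := 5) (by norm_num) (by rw [hAcard]; exact hd5)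
  have c01 : Commute n0 n1 := (mem_centralizer_iff.mp (hAA 0 1 (by norm_num) (by norm_num) (by norm_num) hn0) n1 hn1).symm
  have c02 : Commute n0 n2 := (mem_centralizer_iff.mp (hAA 0 2 (by norm_num) (by norm_num) (by norm_num) hn0) n2 hn2).symm
  have c12 : Commute n1 n2 := (mem_centralizer_iff.mp (hAA 1 2 (by norm_num) (by norm_num) (by norm_num) hn1) n2 hn2).symm
  have hNo : orderOf (n0 * n1 * n2) = 2 * 3 * 5 :=
    H381.Tools.orderOf_mul3 c01 c02 c12 ho0 ho1 ho2 (by norm_num) (by norm_num) (by norm_num)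
  have hNM : n0 * n1 * n2 ∈ M :=
    mul_mem (mul_mem (mem_sup_left (mem_sup_left hn0)) (mem_sup_left (mem_sup_right hn1)))
      (mem_sup_right hn2)
  obtain ⟨c, hc, hxcc⟩ := diag hpp.pos (by rw [← hxo]; exact pow_orderOf_eq_one x) hMx hNM
  have hord := dvd_orderOf_diag hNM hc (by
    intro k hk
    have e1 : (n0 * n1 * n2) ^ k = n0 ^ k * n1 ^ k * n2 ^ k := by
      rw [(c02.mul_left c12).mul_pow, c01.mul_pow]
    have hle : ∀ i, i < 3 → centralizer (M : Set X) ≤ centralizer (A i : Set X) := by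
      intro i hi
      apply centralizer_le
      interval_cases i
      · exact fun y hy => mem_sup_left (mem_sup_left hy)
      · exact fun y hy => mem_sup_left (mem_sup_right hy)
      · exact fun y hy => mem_sup_right hy
    have hbot : ∀ i, i < 3 → ∀ y ∈ A i, y ∈ centralizer (A i : Set X) → y = 1 := by
      intro i _ y hy hy'
      have : y ∈ A i ⊓ centralizer (A i : Set X) := ⟨hy, hy'⟩
      rw [C.inf_centralizer (hAc i)] at this
      exact this
    rw [e1] at hk ⊢
    have m0 : n0 ^ k ∈ A 0 := pow_mem hn0 k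
    have m1 : n1 ^ k ∈ A 1 := pow_mem hn1 k
    have m2 : n2 ^ k ∈ A 2 := pow_mem hn2 k
    have z0 : n0 ^ k = 1 := by
      apply hbot 0 (by norm_num) _ m0
      have h1 := hle 0 (by norm_num) hk
      have h2 : n0 ^ k = n0 ^ k * n1 ^ k * n2 ^ k * ((n1 ^ k) * (n2 ^ k))⁻¹ := by group
      rw [h2]
      exact mul_mem h1 (inv_mem (mul_mem (hAA 1 0 (by norm_num) (by norm_num) (by norm_num) m1)
        (hAA 2 0 (by norm_num) (by norm_num) (by norm_num) m2)))
    rw [z0, one_mul] at hk ⊢
    have z1 : n1 ^ k = 1 := by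
      apply hbot 1 (by norm_num) _ m1
      have h1 := hle 1 (by norm_num) hk
      have h2 : n1 ^ k = n1 ^ k * n2 ^ k * (n2 ^ k)⁻¹ := by group
      rw [h2]
      exact mul_mem h1 (inv_mem (hAA 2 1 (by norm_num) (by norm_num) (by norm_num) m2))
    rw [z1, one_mul] at hk ⊢
    exact hbot 2 (by norm_num) _ m2 (hle 2 (by norm_num) hk))
  rw [hNo] at hord
  have hfin : Has X (p * (2 * 3 * 5)) :=
    Has.of_commute (hxcc.pow_right _) hxo (orderOf_pow_div' hord) (by
      simp only [pi, Finset.mem_insert, Finset.mem_singleton] at hp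
      rcases hp with rfl | rfl | rfl <;> norm_num)
  exact num30 p hp (C.cl.has hfin)

/-- **an involution of the component commuting with an element of order `p`** -/
theorem exists_comm (h3 : Three.{u}) (hNJ : NJ X) {L : Subgroup X} (hL : IsComponent L)
    (hLc : Nat.card L = 660 ∨ (Nat.card L = 60)) {p : ℕ} (hp : p ∈ pi)
    (hpX : p ^ 2 ∣ Nat.card X) : ∃ e ∈ L, orderOf e = 2 ∧ ∃ v : X, orderOf v = p ∧ Commute e v := by
  have hpp := pi_prime hp
  have hpf : Fact p.Prime := ⟨hpp⟩
  obtain ⟨e, heL, he⟩ := H381.Tools.exists_mem_of_dvd (X := L) (q := 2) Nat.prime_two (by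
    rcases hLc with h | h <;> rw [h] <;> norm_num)
  obtain ⟨P⟩ : Nonempty (Sylow p X) := inferInstance
  have hPc : p ^ 2 ∣ Nat.card (P : Subgroup X) := P.pow_dvd_card_of_pow_dvd_card hpX
  have hPlt : p < Nat.card (P : Subgroup X) := by
    have h1 := Nat.le_of_dvd Nat.card_pos hPc
    have h2 := hpp.one_lt
    nlinarith
  by_cases hpL : p ∣ Nat.card L
  · -- `p = 11`, `|L| = 660`
    have h660 : p = 11 ∧ Nat.card L = 660 := by
      simp only [pi, Finset.mem_insert, Finset.mem_singleton] at hp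
      rcases hLc with h | h <;> rw [h] at hpL <;> rcases hp with rfl | rfl | rfl <;>
        first
        | exact ⟨rfl, h⟩
        | exact absurd hpL (by decide)
    obtain ⟨rfl, hLc⟩ := h660
    by_cases h11 : 11 ∣ Nat.card (centralizer (L : Set X))
    · obtain ⟨v, hv, hvo⟩ := H381.Tools.exists_mem_of_dvd (X := centralizer (L : Set X)) hpp h11
      exact ⟨e, heL, he, v, hvo, mem_centralizer_iff.mp hv e heL⟩
    · exfalso
      -- `L` is normal
      have hn : ∀ g : X, g ∈ normalizer (L : Set X) := by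
        intro g
        apply mem_normalizer_of_map
        by_contra hne
        have h1 := comm_of_ne (isComponent_conj g hL) hL hne
        apply h11
        refine Dvd.dvd.trans ?_ (card_dvd_of_le h1)
        rw [Nat.card_congr (L.equivMapOfInjective _ (MulAut.conj g).injective).toEquiv.symm, hLc]
        norm_num
      let ψ : (P : Subgroup X) →* MulAut L :=
        (Subgroup.normalizerMonoidHom L).comp (Subgroup.inclusion (fun g _ => hn g))
      have hψ : Function.Injective ψ := by
        rw [injective_iff_map_eq_one]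
        rintro ⟨y, hy⟩ h
        have h1 : (⟨y, hn y⟩ : normalizer (L : Set X)) ∈ (Subgroup.normalizerMonoidHom L).ker := h
        rw [Subgroup.normalizerMonoidHom_ker] at h1
        have h2 : y ∈ centralizer (L : Set X) := mem_subgroupOf.mp h1
        by_contra hne
        have hy1 : y ≠ 1 := fun h => hne (Subtype.ext h)
        have h3 : orderOf y = 11 := C.cl.orderOf_eq hpp P.2 hy hy1
        apply h11
        rw [← h3]
        exact Subgroup.orderOf_dvd_natCard _ h2
      have hsimp := C.simple hL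
      have h1 : IsPGroup 11 ψ.range := IsPGroup.of_surjective P.2 ψ.rangeRestrict ψ.rangeRestrict_surjective
      have h2 := Small.card_le_eleven hLc ψ.range h1
      have h4 : Nat.card ψ.range = Nat.card (P : Subgroup X) :=
        (Nat.card_congr (MonoidHom.ofInjective hψ).toEquiv).symm
      omega
  · by_cases hex : ∃ x ∈ (P : Subgroup X), x ≠ 1 ∧ x ∈ normalizer (L : Set X)
    · obtain ⟨x, hxP, hx1, hxN⟩ := hex
      have hxo : orderOf x = p := C.cl.orderOf_eq hpp P.2 hxP hx1
      have h1 := commute_of_aut hLc.symm hp hpL hxo hxN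
      exact ⟨e, heL, he, x, hxo, mem_centralizer_iff.mp h1 e heL⟩
    · exfalso
      push Not at hex
      exact C.false_of_free hL hLc.symm hp P.2 hPlt hex

end Ctx

section final

variable {G : Type u} [Group G] [Finite G]

/-- conjugating an involution to a given one -/
theorem conj_lift {Y : Type*} [Group Y] (f : G →* Y) (hf : Function.Surjective f)
    (hk : Odd (Nat.card f.ker)) {e t : G} (he : orderOf e = 2) (ht : orderOf t = 2) {l : Y}
    (hl : l * f t * l⁻¹ = f e) : ∃ g : G, g * t * g⁻¹ = e := by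
  have hc : ∀ x : G, orderOf x = 2 → (orderOf x).Coprime (Nat.card f.ker) := by
    intro x hx; rw [hx]; exact Nat.coprime_two_left.mpr hk
  obtain ⟨g0, rfl⟩ := hf l
  obtain ⟨n, -, hn⟩ := conj_of_map_eq f (a := g0 * t * g0⁻¹) (b := e)
    (hc _ (by rw [← ht]; exact (MulAut.conj g0).orderOf_eq t)) (hc e he)
    (by rw [map_mul, map_mul, map_inv]; exact hl)
  exact ⟨n * g0, by rw [← hn]; group⟩

theorem dvd_cent_of_conj {e t g v : G} (hg : g * t * g⁻¹ = e) (hv : Commute e v) :
    orderOf v ∣ Nat.card (centralizer ({t} : Set G)) := by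
  have h1 : orderOf (g⁻¹ * v * g) = orderOf v := by
    have := (MulAut.conj g⁻¹).orderOf_eq v
    rw [← this]
    congr 1
    simp
  rw [← h1]
  apply Subgroup.orderOf_dvd_natCard
  rw [H381.Tools.mem_cent_iff]
  have ht : t = g⁻¹ * e * g := by rw [← hg]; group
  show _ * _ = _ * _
  rw [ht]
  calc g⁻¹ * e * g * (g⁻¹ * v * g) = g⁻¹ * (e * v) * g := by group
    _ = g⁻¹ * (v * e) * g := by rw [hv.eq]
    _ = g⁻¹ * v * g * (g⁻¹ * e * g) := by group

/-- lifting a commuting pair `(e, v)`, `e` an involution -/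
theorem lift_pair {Y : Type*} [Group Y] (f : G →* Y) (hf : Function.Surjective f)
    (hk : Odd (Nat.card f.ker)) {e v : Y} {p : ℕ} (he : orderOf e = 2) (hv : orderOf v = p)
    (hp : p.Coprime (Nat.card f.ker)) (hev : Commute e v) :
    ∃ e' v' : G, f e' = e ∧ orderOf e' = 2 ∧ orderOf v' = p ∧ Commute e' v' := by
  obtain ⟨e', rfl, he'⟩ := exists_lift_surj f hf he (Nat.coprime_two_left.mpr hk)
  obtain ⟨v0, rfl⟩ := hf v
  obtain ⟨n, hn, hc⟩ := exists_comm_lift f (a := e') (g := v0)
    (by rw [he']; exact Nat.coprime_two_left.mpr hk) hev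
  have h1 : f (n * v0) = f v0 := by rw [map_mul, (MonoidHom.mem_ker).mp hn, one_mul]
  obtain ⟨k, -, hk2⟩ := exists_lift f (g := n * v0) (n := p) (by rw [h1, hv]) hp
  exact ⟨e', _, rfl, he', hk2, hc.pow_right k⟩

/-- **groups with the element orders of `J₁ × J₁` have a `J₁`-section** -/
theorem not_NJ (hodd : OddSolv.{u}) (h3 : Three.{u}) (hG : Full G) (hNJ : NJ G) : False := by
  have C := hG.cl.ctx
  obtain ⟨L, hL⟩ := C.exists_component hodd (not_solvable_quot hodd (not_solvable hG))
  have hNJ' := hNJ.quotient (pPrimeCore 2 G)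
  have hLc := comp_card h3 C hNJ' hL
  set f := QuotientGroup.mk' (pPrimeCore 2 G) with hf
  have hfs : Function.Surjective f := QuotientGroup.mk'_surjective _
  have hker : f.ker = pPrimeCore 2 G := QuotientGroup.ker_mk' _
  have hkodd : Odd (Nat.card f.ker) := by rw [hker]; exact core_odd
  -- the involutions
  have key : ∀ p ∈ pi, ∃ e v : G, f e ∈ L ∧ orderOf e = 2 ∧ orderOf v = p ∧ Commute e v := by
    intro p hp
    have hpp := pi_prime hp
    by_cases hpK : p ∣ Nat.card (pPrimeCore 2 G)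
    · have hle : pPrimeCore 2 G ≤ L.comap f := by
        intro x hx
        rw [← hker, MonoidHom.mem_ker] at hx
        rw [mem_comap, hx]
        exact one_mem _
      obtain ⟨e, he, heo, v, -, hv, hev⟩ := cpk hG.cl (pPrimeCore 2 G) core_odd hpp hpK (L.comap f) hle (by
        have h1 : Nat.card L ∣ Nat.card (L.comap f) := by
          refine Subgroup.card_dvd_of_surjective (f.subgroupComap L) ?_
          rintro ⟨y, hy⟩
          obtain ⟨x, rfl⟩ := hfs y
          exact ⟨⟨x, hy⟩, rfl⟩
        refine Dvd.dvd.trans ?_ h1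
        rcases hLc with h | h <;> rw [h] <;> norm_num)
      exact ⟨e, v, he, heo, hv, hev⟩
    · have hcop : (p ^ 2).Coprime (Nat.card (pPrimeCore 2 G)) :=
        Nat.Coprime.pow_left 2 ((Nat.Prime.coprime_iff_not_dvd hpp).mpr hpK)
      have h1 : p ^ 2 ∣ Nat.card (G ⧸ pPrimeCore 2 G) := by
        have h2 := sq_dvd hodd h3 hG hNJ (pi_le hp)
        rw [Subgroup.card_eq_card_quotient_mul_card_subgroup (pPrimeCore 2 G)] at h2
        exact hcop.dvd_of_dvd_mul_right h2
      obtain ⟨e, heL, he, v, hv, hev⟩ := C.exists_comm h3 hNJ' hL hLc.symm hp h1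
      obtain ⟨e', v', h4, h5, h6, h7⟩ := lift_pair f hfs hkodd he hv (by
        rw [hker]; exact (Nat.Prime.coprime_iff_not_dvd hpp).mpr hpK) hev
      exact ⟨e', v', by rw [h4]; exact heL, h5, h6, h7⟩
  obtain ⟨t, -, htL, ht, -, -⟩ := key 7 (by decide)
  have hsimp := C.simple hL
  refine no_cent hodd h3 hG.cl hNJ ht (by decide) ?_
  intro q hq hq2
  have hqpi : q ∈ pi := by
    revert hq2; revert hq; revert q; decide
  obtain ⟨e, v, heL, he, hv, hev⟩ := key q hqpi
  have ho : ∀ x : G, orderOf x = 2 → ∀ hx : f x ∈ L, orderOf (⟨f x, hx⟩ : L) = 2 := by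
    intro x hx hxL
    rw [Subgroup.orderOf_mk, orderOf_map_eq f, hx]
    rw [hx]; exact Nat.coprime_two_left.mpr hkodd
  obtain ⟨l, hl⟩ := SmallSimple.InvolFour.isConj (G := L) (Ctx.not_comm hL) (by
    rcases hLc with h | h <;> rw [h] <;> norm_num) (ho t ht htL) (ho e he heL)
  obtain ⟨g, hg⟩ := conj_lift f hfs hkodd he ht (l := (l : G ⧸ pPrimeCore 2 G)) (congrArg Subtype.val hl)
  rw [← hv]
  exact dvd_cent_of_conj hg hev

end final

end Cfsg.Agent.H389.JSq
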